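import Cfsg.Agent.Lib.ToddCox.J3T.Data0
set_option autoImplicit false
set_option maxRecDepth 100000
namespace Cfsg.Agent.Lib.ToddCox.J3T
def eT_0_2 (j : ℕ) : ℕ := bif Nat.blt j 1 then E_0 else E_1
def eT_2_4 (j : ℕ) : ℕ := bif Nat.blt j 3 then E_2 else E_3
def eT_0_4 (j : ℕ) : ℕ := bif Nat.blt j 2 then (eT_0_2 j) else (eT_2_4 j)
def eT_4_6 (j : ℕ) : ℕ := bif Nat.blt j 5 then E_4 else E_5
def eT_6_8 (j : ℕ) : ℕ := bif Nat.blt j 7 then E_6 else E_7
def eT_4_8 (j : ℕ) : ℕ := bif Nat.blt j 6 then (eT_4_6 j) else (eT_6_8 j)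
def eT_0_8 (j : ℕ) : ℕ := bif Nat.blt j 4 then (eT_0_4 j) else (eT_4_8 j)
def eT_8_10 (j : ℕ) : ℕ := bif Nat.blt j 9 then E_8 else E_9
def eT_10_12 (j : ℕ) : ℕ := bif Nat.blt j 11 then E_10 else E_11
def eT_8_12 (j : ℕ) : ℕ := bif Nat.blt j 10 then (eT_8_10 j) else (eT_10_12 j)
def eT_12_14 (j : ℕ) : ℕ := bif Nat.blt j 13 then E_12 else E_13
def eT_15_17 (j : ℕ) : ℕ := bif Nat.blt j 16 then E_15 else E_16
def eT_14_17 (j : ℕ) : ℕ := bif Nat.blt j 15 then E_14 else (eT_15_17 j)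
def eT_12_17 (j : ℕ) : ℕ := bif Nat.blt j 14 then (eT_12_14 j) else (eT_14_17 j)
def eT_8_17 (j : ℕ) : ℕ := bif Nat.blt j 12 then (eT_8_12 j) else (eT_12_17 j)
def eT_0_17 (j : ℕ) : ℕ := bif Nat.blt j 8 then (eT_0_8 j) else (eT_8_17 j)
def eT_17_19 (j : ℕ) : ℕ := bif Nat.blt j 18 then E_17 else E_18
def eT_19_21 (j : ℕ) : ℕ := bif Nat.blt j 20 then E_19 else E_20
def eT_17_21 (j : ℕ) : ℕ := bif Nat.blt j 19 then (eT_17_19 j) else (eT_19_21 j)
def eT_21_23 (j : ℕ) : ℕ := bif Nat.blt j 22 then E_21 else E_22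
def eT_24_26 (j : ℕ) : ℕ := bif Nat.blt j 25 then E_24 else E_25
def eT_23_26 (j : ℕ) : ℕ := bif Nat.blt j 24 then E_23 else (eT_24_26 j)
def eT_21_26 (j : ℕ) : ℕ := bif Nat.blt j 23 then (eT_21_23 j) else (eT_23_26 j)
def eT_17_26 (j : ℕ) : ℕ := bif Nat.blt j 21 then (eT_17_21 j) else (eT_21_26 j)
def eT_26_28 (j : ℕ) : ℕ := bif Nat.blt j 27 then E_26 else E_27
def eT_28_30 (j : ℕ) : ℕ := bif Nat.blt j 29 then E_28 else E_29
def eT_26_30 (j : ℕ) : ℕ := bif Nat.blt j 28 then (eT_26_28 j) else (eT_28_30 j)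
def eT_30_32 (j : ℕ) : ℕ := bif Nat.blt j 31 then E_30 else E_31
def eT_33_35 (j : ℕ) : ℕ := bif Nat.blt j 34 then E_33 else E_34
def eT_32_35 (j : ℕ) : ℕ := bif Nat.blt j 33 then E_32 else (eT_33_35 j)
def eT_30_35 (j : ℕ) : ℕ := bif Nat.blt j 32 then (eT_30_32 j) else (eT_32_35 j)
def eT_26_35 (j : ℕ) : ℕ := bif Nat.blt j 30 then (eT_26_30 j) else (eT_30_35 j)
def eT_17_35 (j : ℕ) : ℕ := bif Nat.blt j 26 then (eT_17_26 j) else (eT_26_35 j)
def eT_0_35 (j : ℕ) : ℕ := bif Nat.blt j 17 then (eT_0_17 j) else (eT_17_35 j)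
def eT_35_37 (j : ℕ) : ℕ := bif Nat.blt j 36 then E_35 else E_36
def eT_37_39 (j : ℕ) : ℕ := bif Nat.blt j 38 then E_37 else E_38
def eT_35_39 (j : ℕ) : ℕ := bif Nat.blt j 37 then (eT_35_37 j) else (eT_37_39 j)
def eT_39_41 (j : ℕ) : ℕ := bif Nat.blt j 40 then E_39 else E_40
def eT_41_43 (j : ℕ) : ℕ := bif Nat.blt j 42 then E_41 else E_42
def eT_39_43 (j : ℕ) : ℕ := bif Nat.blt j 41 then (eT_39_41 j) else (eT_41_43 j)
def eT_35_43 (j : ℕ) : ℕ := bif Nat.blt j 39 then (eT_35_39 j) else (eT_39_43 j)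
def eT_43_45 (j : ℕ) : ℕ := bif Nat.blt j 44 then E_43 else E_44
def eT_45_47 (j : ℕ) : ℕ := bif Nat.blt j 46 then E_45 else E_46
def eT_43_47 (j : ℕ) : ℕ := bif Nat.blt j 45 then (eT_43_45 j) else (eT_45_47 j)
def eT_47_49 (j : ℕ) : ℕ := bif Nat.blt j 48 then E_47 else E_48
def eT_50_52 (j : ℕ) : ℕ := bif Nat.blt j 51 then E_50 else E_51
def eT_49_52 (j : ℕ) : ℕ := bif Nat.blt j 50 then E_49 else (eT_50_52 j)
def eT_47_52 (j : ℕ) : ℕ := bif Nat.blt j 49 then (eT_47_49 j) else (eT_49_52 j)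
def eT_43_52 (j : ℕ) : ℕ := bif Nat.blt j 47 then (eT_43_47 j) else (eT_47_52 j)
def eT_35_52 (j : ℕ) : ℕ := bif Nat.blt j 43 then (eT_35_43 j) else (eT_43_52 j)
def eT_52_54 (j : ℕ) : ℕ := bif Nat.blt j 53 then E_52 else E_53
def eT_54_56 (j : ℕ) : ℕ := bif Nat.blt j 55 then E_54 else E_55
def eT_52_56 (j : ℕ) : ℕ := bif Nat.blt j 54 then (eT_52_54 j) else (eT_54_56 j)
def eT_56_58 (j : ℕ) : ℕ := bif Nat.blt j 57 then E_56 else E_57
def eT_59_61 (j : ℕ) : ℕ := bif Nat.blt j 60 then E_59 else E_60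
def eT_58_61 (j : ℕ) : ℕ := bif Nat.blt j 59 then E_58 else (eT_59_61 j)
def eT_56_61 (j : ℕ) : ℕ := bif Nat.blt j 58 then (eT_56_58 j) else (eT_58_61 j)
def eT_52_61 (j : ℕ) : ℕ := bif Nat.blt j 56 then (eT_52_56 j) else (eT_56_61 j)
def eT_61_63 (j : ℕ) : ℕ := bif Nat.blt j 62 then E_61 else E_62
def eT_63_65 (j : ℕ) : ℕ := bif Nat.blt j 64 then E_63 else E_64
def eT_61_65 (j : ℕ) : ℕ := bif Nat.blt j 63 then (eT_61_63 j) else (eT_63_65 j)
def eT_65_67 (j : ℕ) : ℕ := bif Nat.blt j 66 then E_65 else E_66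
def eT_68_70 (j : ℕ) : ℕ := bif Nat.blt j 69 then E_68 else E_69
def eT_67_70 (j : ℕ) : ℕ := bif Nat.blt j 68 then E_67 else (eT_68_70 j)
def eT_65_70 (j : ℕ) : ℕ := bif Nat.blt j 67 then (eT_65_67 j) else (eT_67_70 j)
def eT_61_70 (j : ℕ) : ℕ := bif Nat.blt j 65 then (eT_61_65 j) else (eT_65_70 j)
def eT_52_70 (j : ℕ) : ℕ := bif Nat.blt j 61 then (eT_52_61 j) else (eT_61_70 j)
def eT_35_70 (j : ℕ) : ℕ := bif Nat.blt j 52 then (eT_35_52 j) else (eT_52_70 j)
def eT_0_70 (j : ℕ) : ℕ := bif Nat.blt j 35 then (eT_0_35 j) else (eT_35_70 j)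
def eT_70_72 (j : ℕ) : ℕ := bif Nat.blt j 71 then E_70 else E_71
def eT_72_74 (j : ℕ) : ℕ := bif Nat.blt j 73 then E_72 else E_73
def eT_70_74 (j : ℕ) : ℕ := bif Nat.blt j 72 then (eT_70_72 j) else (eT_72_74 j)
def eT_74_76 (j : ℕ) : ℕ := bif Nat.blt j 75 then E_74 else E_75
def eT_76_78 (j : ℕ) : ℕ := bif Nat.blt j 77 then E_76 else E_77
def eT_74_78 (j : ℕ) : ℕ := bif Nat.blt j 76 then (eT_74_76 j) else (eT_76_78 j)
def eT_70_78 (j : ℕ) : ℕ := bif Nat.blt j 74 then (eT_70_74 j) else (eT_74_78 j)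
def eT_78_80 (j : ℕ) : ℕ := bif Nat.blt j 79 then E_78 else E_79
def eT_80_82 (j : ℕ) : ℕ := bif Nat.blt j 81 then E_80 else E_81
def eT_78_82 (j : ℕ) : ℕ := bif Nat.blt j 80 then (eT_78_80 j) else (eT_80_82 j)
def eT_82_84 (j : ℕ) : ℕ := bif Nat.blt j 83 then E_82 else E_83
def eT_85_87 (j : ℕ) : ℕ := bif Nat.blt j 86 then E_85 else E_86
def eT_84_87 (j : ℕ) : ℕ := bif Nat.blt j 85 then E_84 else (eT_85_87 j)
def eT_82_87 (j : ℕ) : ℕ := bif Nat.blt j 84 then (eT_82_84 j) else (eT_84_87 j)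
def eT_78_87 (j : ℕ) : ℕ := bif Nat.blt j 82 then (eT_78_82 j) else (eT_82_87 j)
def eT_70_87 (j : ℕ) : ℕ := bif Nat.blt j 78 then (eT_70_78 j) else (eT_78_87 j)
def eT_87_89 (j : ℕ) : ℕ := bif Nat.blt j 88 then E_87 else E_88
def eT_89_91 (j : ℕ) : ℕ := bif Nat.blt j 90 then E_89 else E_90
def eT_87_91 (j : ℕ) : ℕ := bif Nat.blt j 89 then (eT_87_89 j) else (eT_89_91 j)
def eT_91_93 (j : ℕ) : ℕ := bif Nat.blt j 92 then E_91 else E_92
def eT_94_96 (j : ℕ) : ℕ := bif Nat.blt j 95 then E_94 else E_95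
def eT_93_96 (j : ℕ) : ℕ := bif Nat.blt j 94 then E_93 else (eT_94_96 j)
def eT_91_96 (j : ℕ) : ℕ := bif Nat.blt j 93 then (eT_91_93 j) else (eT_93_96 j)
def eT_87_96 (j : ℕ) : ℕ := bif Nat.blt j 91 then (eT_87_91 j) else (eT_91_96 j)
def eT_96_98 (j : ℕ) : ℕ := bif Nat.blt j 97 then E_96 else E_97
def eT_98_100 (j : ℕ) : ℕ := bif Nat.blt j 99 then E_98 else E_99
def eT_96_100 (j : ℕ) : ℕ := bif Nat.blt j 98 then (eT_96_98 j) else (eT_98_100 j)
def eT_100_102 (j : ℕ) : ℕ := bif Nat.blt j 101 then E_100 else E_101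
def eT_103_105 (j : ℕ) : ℕ := bif Nat.blt j 104 then E_103 else E_104
def eT_102_105 (j : ℕ) : ℕ := bif Nat.blt j 103 then E_102 else (eT_103_105 j)
def eT_100_105 (j : ℕ) : ℕ := bif Nat.blt j 102 then (eT_100_102 j) else (eT_102_105 j)
def eT_96_105 (j : ℕ) : ℕ := bif Nat.blt j 100 then (eT_96_100 j) else (eT_100_105 j)
def eT_87_105 (j : ℕ) : ℕ := bif Nat.blt j 96 then (eT_87_96 j) else (eT_96_105 j)
def eT_70_105 (j : ℕ) : ℕ := bif Nat.blt j 87 then (eT_70_87 j) else (eT_87_105 j)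
def eT_105_107 (j : ℕ) : ℕ := bif Nat.blt j 106 then E_105 else E_106
def eT_107_109 (j : ℕ) : ℕ := bif Nat.blt j 108 then E_107 else E_108
def eT_105_109 (j : ℕ) : ℕ := bif Nat.blt j 107 then (eT_105_107 j) else (eT_107_109 j)
def eT_109_111 (j : ℕ) : ℕ := bif Nat.blt j 110 then E_109 else E_110
def eT_112_114 (j : ℕ) : ℕ := bif Nat.blt j 113 then E_112 else E_113
def eT_111_114 (j : ℕ) : ℕ := bif Nat.blt j 112 then E_111 else (eT_112_114 j)
def eT_109_114 (j : ℕ) : ℕ := bif Nat.blt j 111 then (eT_109_111 j) else (eT_111_114 j)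
def eT_105_114 (j : ℕ) : ℕ := bif Nat.blt j 109 then (eT_105_109 j) else (eT_109_114 j)
def eT_114_116 (j : ℕ) : ℕ := bif Nat.blt j 115 then E_114 else E_115
def eT_116_118 (j : ℕ) : ℕ := bif Nat.blt j 117 then E_116 else E_117
def eT_114_118 (j : ℕ) : ℕ := bif Nat.blt j 116 then (eT_114_116 j) else (eT_116_118 j)
def eT_118_120 (j : ℕ) : ℕ := bif Nat.blt j 119 then E_118 else E_119
def eT_121_123 (j : ℕ) : ℕ := bif Nat.blt j 122 then E_121 else E_122
def eT_120_123 (j : ℕ) : ℕ := bif Nat.blt j 121 then E_120 else (eT_121_123 j)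
def eT_118_123 (j : ℕ) : ℕ := bif Nat.blt j 120 then (eT_118_120 j) else (eT_120_123 j)
def eT_114_123 (j : ℕ) : ℕ := bif Nat.blt j 118 then (eT_114_118 j) else (eT_118_123 j)
def eT_105_123 (j : ℕ) : ℕ := bif Nat.blt j 114 then (eT_105_114 j) else (eT_114_123 j)
def eT_123_125 (j : ℕ) : ℕ := bif Nat.blt j 124 then E_123 else E_124
def eT_125_127 (j : ℕ) : ℕ := bif Nat.blt j 126 then E_125 else E_126
def eT_123_127 (j : ℕ) : ℕ := bif Nat.blt j 125 then (eT_123_125 j) else (eT_125_127 j)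
def eT_127_129 (j : ℕ) : ℕ := bif Nat.blt j 128 then E_127 else E_128
def eT_130_132 (j : ℕ) : ℕ := bif Nat.blt j 131 then E_130 else E_131
def eT_129_132 (j : ℕ) : ℕ := bif Nat.blt j 130 then E_129 else (eT_130_132 j)
def eT_127_132 (j : ℕ) : ℕ := bif Nat.blt j 129 then (eT_127_129 j) else (eT_129_132 j)
def eT_123_132 (j : ℕ) : ℕ := bif Nat.blt j 127 then (eT_123_127 j) else (eT_127_132 j)
def eT_132_134 (j : ℕ) : ℕ := bif Nat.blt j 133 then E_132 else E_133
def eT_134_136 (j : ℕ) : ℕ := bif Nat.blt j 135 then E_134 else E_135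
def eT_132_136 (j : ℕ) : ℕ := bif Nat.blt j 134 then (eT_132_134 j) else (eT_134_136 j)
def eT_136_138 (j : ℕ) : ℕ := bif Nat.blt j 137 then E_136 else E_137
def eT_139_141 (j : ℕ) : ℕ := bif Nat.blt j 140 then E_139 else E_140
def eT_138_141 (j : ℕ) : ℕ := bif Nat.blt j 139 then E_138 else (eT_139_141 j)
def eT_136_141 (j : ℕ) : ℕ := bif Nat.blt j 138 then (eT_136_138 j) else (eT_138_141 j)
def eT_132_141 (j : ℕ) : ℕ := bif Nat.blt j 136 then (eT_132_136 j) else (eT_136_141 j)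
def eT_123_141 (j : ℕ) : ℕ := bif Nat.blt j 132 then (eT_123_132 j) else (eT_132_141 j)
def eT_105_141 (j : ℕ) : ℕ := bif Nat.blt j 123 then (eT_105_123 j) else (eT_123_141 j)
def eT_70_141 (j : ℕ) : ℕ := bif Nat.blt j 105 then (eT_70_105 j) else (eT_105_141 j)
def eT_0_141 (j : ℕ) : ℕ := bif Nat.blt j 70 then (eT_0_70 j) else (eT_70_141 j)
def eT_141_143 (j : ℕ) : ℕ := bif Nat.blt j 142 then E_141 else E_142
def eT_143_145 (j : ℕ) : ℕ := bif Nat.blt j 144 then E_143 else E_144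
def eT_141_145 (j : ℕ) : ℕ := bif Nat.blt j 143 then (eT_141_143 j) else (eT_143_145 j)
def eT_145_147 (j : ℕ) : ℕ := bif Nat.blt j 146 then E_145 else E_146
def eT_147_149 (j : ℕ) : ℕ := bif Nat.blt j 148 then E_147 else E_148
def eT_145_149 (j : ℕ) : ℕ := bif Nat.blt j 147 then (eT_145_147 j) else (eT_147_149 j)
def eT_141_149 (j : ℕ) : ℕ := bif Nat.blt j 145 then (eT_141_145 j) else (eT_145_149 j)
def eT_149_151 (j : ℕ) : ℕ := bif Nat.blt j 150 then E_149 else E_150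
def eT_151_153 (j : ℕ) : ℕ := bif Nat.blt j 152 then E_151 else E_152
def eT_149_153 (j : ℕ) : ℕ := bif Nat.blt j 151 then (eT_149_151 j) else (eT_151_153 j)
def eT_153_155 (j : ℕ) : ℕ := bif Nat.blt j 154 then E_153 else E_154
def eT_156_158 (j : ℕ) : ℕ := bif Nat.blt j 157 then E_156 else E_157
def eT_155_158 (j : ℕ) : ℕ := bif Nat.blt j 156 then E_155 else (eT_156_158 j)
def eT_153_158 (j : ℕ) : ℕ := bif Nat.blt j 155 then (eT_153_155 j) else (eT_155_158 j)
def eT_149_158 (j : ℕ) : ℕ := bif Nat.blt j 153 then (eT_149_153 j) else (eT_153_158 j)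
def eT_141_158 (j : ℕ) : ℕ := bif Nat.blt j 149 then (eT_141_149 j) else (eT_149_158 j)
def eT_158_160 (j : ℕ) : ℕ := bif Nat.blt j 159 then E_158 else E_159
def eT_160_162 (j : ℕ) : ℕ := bif Nat.blt j 161 then E_160 else E_161
def eT_158_162 (j : ℕ) : ℕ := bif Nat.blt j 160 then (eT_158_160 j) else (eT_160_162 j)
def eT_162_164 (j : ℕ) : ℕ := bif Nat.blt j 163 then E_162 else E_163
def eT_165_167 (j : ℕ) : ℕ := bif Nat.blt j 166 then E_165 else E_166
def eT_164_167 (j : ℕ) : ℕ := bif Nat.blt j 165 then E_164 else (eT_165_167 j)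
def eT_162_167 (j : ℕ) : ℕ := bif Nat.blt j 164 then (eT_162_164 j) else (eT_164_167 j)
def eT_158_167 (j : ℕ) : ℕ := bif Nat.blt j 162 then (eT_158_162 j) else (eT_162_167 j)
def eT_167_169 (j : ℕ) : ℕ := bif Nat.blt j 168 then E_167 else E_168
def eT_169_171 (j : ℕ) : ℕ := bif Nat.blt j 170 then E_169 else E_170
def eT_167_171 (j : ℕ) : ℕ := bif Nat.blt j 169 then (eT_167_169 j) else (eT_169_171 j)
def eT_171_173 (j : ℕ) : ℕ := bif Nat.blt j 172 then E_171 else E_172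
def eT_174_176 (j : ℕ) : ℕ := bif Nat.blt j 175 then E_174 else E_175
def eT_173_176 (j : ℕ) : ℕ := bif Nat.blt j 174 then E_173 else (eT_174_176 j)
def eT_171_176 (j : ℕ) : ℕ := bif Nat.blt j 173 then (eT_171_173 j) else (eT_173_176 j)
def eT_167_176 (j : ℕ) : ℕ := bif Nat.blt j 171 then (eT_167_171 j) else (eT_171_176 j)
def eT_158_176 (j : ℕ) : ℕ := bif Nat.blt j 167 then (eT_158_167 j) else (eT_167_176 j)
def eT_141_176 (j : ℕ) : ℕ := bif Nat.blt j 158 then (eT_141_158 j) else (eT_158_176 j)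
def eT_176_178 (j : ℕ) : ℕ := bif Nat.blt j 177 then E_176 else E_177
def eT_178_180 (j : ℕ) : ℕ := bif Nat.blt j 179 then E_178 else E_179
def eT_176_180 (j : ℕ) : ℕ := bif Nat.blt j 178 then (eT_176_178 j) else (eT_178_180 j)
def eT_180_182 (j : ℕ) : ℕ := bif Nat.blt j 181 then E_180 else E_181
def eT_182_184 (j : ℕ) : ℕ := bif Nat.blt j 183 then E_182 else E_183
def eT_180_184 (j : ℕ) : ℕ := bif Nat.blt j 182 then (eT_180_182 j) else (eT_182_184 j)
def eT_176_184 (j : ℕ) : ℕ := bif Nat.blt j 180 then (eT_176_180 j) else (eT_180_184 j)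
def eT_184_186 (j : ℕ) : ℕ := bif Nat.blt j 185 then E_184 else E_185
def eT_186_188 (j : ℕ) : ℕ := bif Nat.blt j 187 then E_186 else E_187
def eT_184_188 (j : ℕ) : ℕ := bif Nat.blt j 186 then (eT_184_186 j) else (eT_186_188 j)
def eT_188_190 (j : ℕ) : ℕ := bif Nat.blt j 189 then E_188 else E_189
def eT_191_193 (j : ℕ) : ℕ := bif Nat.blt j 192 then E_191 else E_192
def eT_190_193 (j : ℕ) : ℕ := bif Nat.blt j 191 then E_190 else (eT_191_193 j)
def eT_188_193 (j : ℕ) : ℕ := bif Nat.blt j 190 then (eT_188_190 j) else (eT_190_193 j)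
def eT_184_193 (j : ℕ) : ℕ := bif Nat.blt j 188 then (eT_184_188 j) else (eT_188_193 j)
def eT_176_193 (j : ℕ) : ℕ := bif Nat.blt j 184 then (eT_176_184 j) else (eT_184_193 j)
def eT_193_195 (j : ℕ) : ℕ := bif Nat.blt j 194 then E_193 else E_194
def eT_195_197 (j : ℕ) : ℕ := bif Nat.blt j 196 then E_195 else E_196
def eT_193_197 (j : ℕ) : ℕ := bif Nat.blt j 195 then (eT_193_195 j) else (eT_195_197 j)
def eT_197_199 (j : ℕ) : ℕ := bif Nat.blt j 198 then E_197 else E_198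
def eT_200_202 (j : ℕ) : ℕ := bif Nat.blt j 201 then E_200 else E_201
def eT_199_202 (j : ℕ) : ℕ := bif Nat.blt j 200 then E_199 else (eT_200_202 j)
def eT_197_202 (j : ℕ) : ℕ := bif Nat.blt j 199 then (eT_197_199 j) else (eT_199_202 j)
def eT_193_202 (j : ℕ) : ℕ := bif Nat.blt j 197 then (eT_193_197 j) else (eT_197_202 j)
def eT_202_204 (j : ℕ) : ℕ := bif Nat.blt j 203 then E_202 else E_203
def eT_204_206 (j : ℕ) : ℕ := bif Nat.blt j 205 then E_204 else E_205
def eT_202_206 (j : ℕ) : ℕ := bif Nat.blt j 204 then (eT_202_204 j) else (eT_204_206 j)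
def eT_206_208 (j : ℕ) : ℕ := bif Nat.blt j 207 then E_206 else E_207
def eT_209_211 (j : ℕ) : ℕ := bif Nat.blt j 210 then E_209 else E_210
def eT_208_211 (j : ℕ) : ℕ := bif Nat.blt j 209 then E_208 else (eT_209_211 j)
def eT_206_211 (j : ℕ) : ℕ := bif Nat.blt j 208 then (eT_206_208 j) else (eT_208_211 j)
def eT_202_211 (j : ℕ) : ℕ := bif Nat.blt j 206 then (eT_202_206 j) else (eT_206_211 j)
def eT_193_211 (j : ℕ) : ℕ := bif Nat.blt j 202 then (eT_193_202 j) else (eT_202_211 j)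
def eT_176_211 (j : ℕ) : ℕ := bif Nat.blt j 193 then (eT_176_193 j) else (eT_193_211 j)
def eT_141_211 (j : ℕ) : ℕ := bif Nat.blt j 176 then (eT_141_176 j) else (eT_176_211 j)
def eT_211_213 (j : ℕ) : ℕ := bif Nat.blt j 212 then E_211 else E_212
def eT_213_215 (j : ℕ) : ℕ := bif Nat.blt j 214 then E_213 else E_214
def eT_211_215 (j : ℕ) : ℕ := bif Nat.blt j 213 then (eT_211_213 j) else (eT_213_215 j)
def eT_215_217 (j : ℕ) : ℕ := bif Nat.blt j 216 then E_215 else E_216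
def eT_217_219 (j : ℕ) : ℕ := bif Nat.blt j 218 then E_217 else E_218
def eT_215_219 (j : ℕ) : ℕ := bif Nat.blt j 217 then (eT_215_217 j) else (eT_217_219 j)
def eT_211_219 (j : ℕ) : ℕ := bif Nat.blt j 215 then (eT_211_215 j) else (eT_215_219 j)
def eT_219_221 (j : ℕ) : ℕ := bif Nat.blt j 220 then E_219 else E_220
def eT_221_223 (j : ℕ) : ℕ := bif Nat.blt j 222 then E_221 else E_222
def eT_219_223 (j : ℕ) : ℕ := bif Nat.blt j 221 then (eT_219_221 j) else (eT_221_223 j)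
def eT_223_225 (j : ℕ) : ℕ := bif Nat.blt j 224 then E_223 else E_224
def eT_226_228 (j : ℕ) : ℕ := bif Nat.blt j 227 then E_226 else E_227
def eT_225_228 (j : ℕ) : ℕ := bif Nat.blt j 226 then E_225 else (eT_226_228 j)
def eT_223_228 (j : ℕ) : ℕ := bif Nat.blt j 225 then (eT_223_225 j) else (eT_225_228 j)
def eT_219_228 (j : ℕ) : ℕ := bif Nat.blt j 223 then (eT_219_223 j) else (eT_223_228 j)
def eT_211_228 (j : ℕ) : ℕ := bif Nat.blt j 219 then (eT_211_219 j) else (eT_219_228 j)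
def eT_228_230 (j : ℕ) : ℕ := bif Nat.blt j 229 then E_228 else E_229
def eT_230_232 (j : ℕ) : ℕ := bif Nat.blt j 231 then E_230 else E_231
def eT_228_232 (j : ℕ) : ℕ := bif Nat.blt j 230 then (eT_228_230 j) else (eT_230_232 j)
def eT_232_234 (j : ℕ) : ℕ := bif Nat.blt j 233 then E_232 else E_233
def eT_235_237 (j : ℕ) : ℕ := bif Nat.blt j 236 then E_235 else E_236
def eT_234_237 (j : ℕ) : ℕ := bif Nat.blt j 235 then E_234 else (eT_235_237 j)
def eT_232_237 (j : ℕ) : ℕ := bif Nat.blt j 234 then (eT_232_234 j) else (eT_234_237 j)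
def eT_228_237 (j : ℕ) : ℕ := bif Nat.blt j 232 then (eT_228_232 j) else (eT_232_237 j)
def eT_237_239 (j : ℕ) : ℕ := bif Nat.blt j 238 then E_237 else E_238
def eT_239_241 (j : ℕ) : ℕ := bif Nat.blt j 240 then E_239 else E_240
def eT_237_241 (j : ℕ) : ℕ := bif Nat.blt j 239 then (eT_237_239 j) else (eT_239_241 j)
def eT_241_243 (j : ℕ) : ℕ := bif Nat.blt j 242 then E_241 else E_242
def eT_244_246 (j : ℕ) : ℕ := bif Nat.blt j 245 then E_244 else E_245
def eT_243_246 (j : ℕ) : ℕ := bif Nat.blt j 244 then E_243 else (eT_244_246 j)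
def eT_241_246 (j : ℕ) : ℕ := bif Nat.blt j 243 then (eT_241_243 j) else (eT_243_246 j)
def eT_237_246 (j : ℕ) : ℕ := bif Nat.blt j 241 then (eT_237_241 j) else (eT_241_246 j)
def eT_228_246 (j : ℕ) : ℕ := bif Nat.blt j 237 then (eT_228_237 j) else (eT_237_246 j)
def eT_211_246 (j : ℕ) : ℕ := bif Nat.blt j 228 then (eT_211_228 j) else (eT_228_246 j)
def eT_246_248 (j : ℕ) : ℕ := bif Nat.blt j 247 then E_246 else E_247
def eT_248_250 (j : ℕ) : ℕ := bif Nat.blt j 249 then E_248 else E_249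
def eT_246_250 (j : ℕ) : ℕ := bif Nat.blt j 248 then (eT_246_248 j) else (eT_248_250 j)
def eT_250_252 (j : ℕ) : ℕ := bif Nat.blt j 251 then E_250 else E_251
def eT_253_255 (j : ℕ) : ℕ := bif Nat.blt j 254 then E_253 else E_254
def eT_252_255 (j : ℕ) : ℕ := bif Nat.blt j 253 then E_252 else (eT_253_255 j)
def eT_250_255 (j : ℕ) : ℕ := bif Nat.blt j 252 then (eT_250_252 j) else (eT_252_255 j)
def eT_246_255 (j : ℕ) : ℕ := bif Nat.blt j 250 then (eT_246_250 j) else (eT_250_255 j)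
def eT_255_257 (j : ℕ) : ℕ := bif Nat.blt j 256 then E_255 else E_256
def eT_257_259 (j : ℕ) : ℕ := bif Nat.blt j 258 then E_257 else E_258
def eT_255_259 (j : ℕ) : ℕ := bif Nat.blt j 257 then (eT_255_257 j) else (eT_257_259 j)
def eT_259_261 (j : ℕ) : ℕ := bif Nat.blt j 260 then E_259 else E_260
def eT_262_264 (j : ℕ) : ℕ := bif Nat.blt j 263 then E_262 else E_263
def eT_261_264 (j : ℕ) : ℕ := bif Nat.blt j 262 then E_261 else (eT_262_264 j)
def eT_259_264 (j : ℕ) : ℕ := bif Nat.blt j 261 then (eT_259_261 j) else (eT_261_264 j)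
def eT_255_264 (j : ℕ) : ℕ := bif Nat.blt j 259 then (eT_255_259 j) else (eT_259_264 j)
def eT_246_264 (j : ℕ) : ℕ := bif Nat.blt j 255 then (eT_246_255 j) else (eT_255_264 j)
def eT_264_266 (j : ℕ) : ℕ := bif Nat.blt j 265 then E_264 else E_265
def eT_266_268 (j : ℕ) : ℕ := bif Nat.blt j 267 then E_266 else E_267
def eT_264_268 (j : ℕ) : ℕ := bif Nat.blt j 266 then (eT_264_266 j) else (eT_266_268 j)
def eT_268_270 (j : ℕ) : ℕ := bif Nat.blt j 269 then E_268 else E_269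
def eT_271_273 (j : ℕ) : ℕ := bif Nat.blt j 272 then E_271 else E_272
def eT_270_273 (j : ℕ) : ℕ := bif Nat.blt j 271 then E_270 else (eT_271_273 j)
def eT_268_273 (j : ℕ) : ℕ := bif Nat.blt j 270 then (eT_268_270 j) else (eT_270_273 j)
def eT_264_273 (j : ℕ) : ℕ := bif Nat.blt j 268 then (eT_264_268 j) else (eT_268_273 j)
def eT_273_275 (j : ℕ) : ℕ := bif Nat.blt j 274 then E_273 else E_274
def eT_275_277 (j : ℕ) : ℕ := bif Nat.blt j 276 then E_275 else E_276
def eT_273_277 (j : ℕ) : ℕ := bif Nat.blt j 275 then (eT_273_275 j) else (eT_275_277 j)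
def eT_277_279 (j : ℕ) : ℕ := bif Nat.blt j 278 then E_277 else E_278
def eT_280_282 (j : ℕ) : ℕ := bif Nat.blt j 281 then E_280 else E_281
def eT_279_282 (j : ℕ) : ℕ := bif Nat.blt j 280 then E_279 else (eT_280_282 j)
def eT_277_282 (j : ℕ) : ℕ := bif Nat.blt j 279 then (eT_277_279 j) else (eT_279_282 j)
def eT_273_282 (j : ℕ) : ℕ := bif Nat.blt j 277 then (eT_273_277 j) else (eT_277_282 j)
def eT_264_282 (j : ℕ) : ℕ := bif Nat.blt j 273 then (eT_264_273 j) else (eT_273_282 j)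
def eT_246_282 (j : ℕ) : ℕ := bif Nat.blt j 264 then (eT_246_264 j) else (eT_264_282 j)
def eT_211_282 (j : ℕ) : ℕ := bif Nat.blt j 246 then (eT_211_246 j) else (eT_246_282 j)
def eT_141_282 (j : ℕ) : ℕ := bif Nat.blt j 211 then (eT_141_211 j) else (eT_211_282 j)
def eT_0_282 (j : ℕ) : ℕ := bif Nat.blt j 141 then (eT_0_141 j) else (eT_141_282 j)
def eT_282_284 (j : ℕ) : ℕ := bif Nat.blt j 283 then E_282 else E_283
def eT_284_286 (j : ℕ) : ℕ := bif Nat.blt j 285 then E_284 else E_285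
def eT_282_286 (j : ℕ) : ℕ := bif Nat.blt j 284 then (eT_282_284 j) else (eT_284_286 j)
def eT_286_288 (j : ℕ) : ℕ := bif Nat.blt j 287 then E_286 else E_287
def eT_288_290 (j : ℕ) : ℕ := bif Nat.blt j 289 then E_288 else E_289
def eT_286_290 (j : ℕ) : ℕ := bif Nat.blt j 288 then (eT_286_288 j) else (eT_288_290 j)
def eT_282_290 (j : ℕ) : ℕ := bif Nat.blt j 286 then (eT_282_286 j) else (eT_286_290 j)
def eT_290_292 (j : ℕ) : ℕ := bif Nat.blt j 291 then E_290 else E_291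
def eT_292_294 (j : ℕ) : ℕ := bif Nat.blt j 293 then E_292 else E_293
def eT_290_294 (j : ℕ) : ℕ := bif Nat.blt j 292 then (eT_290_292 j) else (eT_292_294 j)
def eT_294_296 (j : ℕ) : ℕ := bif Nat.blt j 295 then E_294 else E_295
def eT_297_299 (j : ℕ) : ℕ := bif Nat.blt j 298 then E_297 else E_298
def eT_296_299 (j : ℕ) : ℕ := bif Nat.blt j 297 then E_296 else (eT_297_299 j)
def eT_294_299 (j : ℕ) : ℕ := bif Nat.blt j 296 then (eT_294_296 j) else (eT_296_299 j)
def eT_290_299 (j : ℕ) : ℕ := bif Nat.blt j 294 then (eT_290_294 j) else (eT_294_299 j)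
def eT_282_299 (j : ℕ) : ℕ := bif Nat.blt j 290 then (eT_282_290 j) else (eT_290_299 j)
def eT_299_301 (j : ℕ) : ℕ := bif Nat.blt j 300 then E_299 else E_300
def eT_301_303 (j : ℕ) : ℕ := bif Nat.blt j 302 then E_301 else E_302
def eT_299_303 (j : ℕ) : ℕ := bif Nat.blt j 301 then (eT_299_301 j) else (eT_301_303 j)
def eT_303_305 (j : ℕ) : ℕ := bif Nat.blt j 304 then E_303 else E_304
def eT_306_308 (j : ℕ) : ℕ := bif Nat.blt j 307 then E_306 else E_307
def eT_305_308 (j : ℕ) : ℕ := bif Nat.blt j 306 then E_305 else (eT_306_308 j)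
def eT_303_308 (j : ℕ) : ℕ := bif Nat.blt j 305 then (eT_303_305 j) else (eT_305_308 j)
def eT_299_308 (j : ℕ) : ℕ := bif Nat.blt j 303 then (eT_299_303 j) else (eT_303_308 j)
def eT_308_310 (j : ℕ) : ℕ := bif Nat.blt j 309 then E_308 else E_309
def eT_310_312 (j : ℕ) : ℕ := bif Nat.blt j 311 then E_310 else E_311
def eT_308_312 (j : ℕ) : ℕ := bif Nat.blt j 310 then (eT_308_310 j) else (eT_310_312 j)
def eT_312_314 (j : ℕ) : ℕ := bif Nat.blt j 313 then E_312 else E_313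
def eT_315_317 (j : ℕ) : ℕ := bif Nat.blt j 316 then E_315 else E_316
def eT_314_317 (j : ℕ) : ℕ := bif Nat.blt j 315 then E_314 else (eT_315_317 j)
def eT_312_317 (j : ℕ) : ℕ := bif Nat.blt j 314 then (eT_312_314 j) else (eT_314_317 j)
def eT_308_317 (j : ℕ) : ℕ := bif Nat.blt j 312 then (eT_308_312 j) else (eT_312_317 j)
def eT_299_317 (j : ℕ) : ℕ := bif Nat.blt j 308 then (eT_299_308 j) else (eT_308_317 j)
def eT_282_317 (j : ℕ) : ℕ := bif Nat.blt j 299 then (eT_282_299 j) else (eT_299_317 j)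
def eT_317_319 (j : ℕ) : ℕ := bif Nat.blt j 318 then E_317 else E_318
def eT_319_321 (j : ℕ) : ℕ := bif Nat.blt j 320 then E_319 else E_320
def eT_317_321 (j : ℕ) : ℕ := bif Nat.blt j 319 then (eT_317_319 j) else (eT_319_321 j)
def eT_321_323 (j : ℕ) : ℕ := bif Nat.blt j 322 then E_321 else E_322
def eT_323_325 (j : ℕ) : ℕ := bif Nat.blt j 324 then E_323 else E_324
def eT_321_325 (j : ℕ) : ℕ := bif Nat.blt j 323 then (eT_321_323 j) else (eT_323_325 j)
def eT_317_325 (j : ℕ) : ℕ := bif Nat.blt j 321 then (eT_317_321 j) else (eT_321_325 j)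
def eT_325_327 (j : ℕ) : ℕ := bif Nat.blt j 326 then E_325 else E_326
def eT_327_329 (j : ℕ) : ℕ := bif Nat.blt j 328 then E_327 else E_328
def eT_325_329 (j : ℕ) : ℕ := bif Nat.blt j 327 then (eT_325_327 j) else (eT_327_329 j)
def eT_329_331 (j : ℕ) : ℕ := bif Nat.blt j 330 then E_329 else E_330
def eT_332_334 (j : ℕ) : ℕ := bif Nat.blt j 333 then E_332 else E_333
def eT_331_334 (j : ℕ) : ℕ := bif Nat.blt j 332 then E_331 else (eT_332_334 j)
def eT_329_334 (j : ℕ) : ℕ := bif Nat.blt j 331 then (eT_329_331 j) else (eT_331_334 j)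
def eT_325_334 (j : ℕ) : ℕ := bif Nat.blt j 329 then (eT_325_329 j) else (eT_329_334 j)
def eT_317_334 (j : ℕ) : ℕ := bif Nat.blt j 325 then (eT_317_325 j) else (eT_325_334 j)
def eT_334_336 (j : ℕ) : ℕ := bif Nat.blt j 335 then E_334 else E_335
def eT_336_338 (j : ℕ) : ℕ := bif Nat.blt j 337 then E_336 else E_337
def eT_334_338 (j : ℕ) : ℕ := bif Nat.blt j 336 then (eT_334_336 j) else (eT_336_338 j)
def eT_338_340 (j : ℕ) : ℕ := bif Nat.blt j 339 then E_338 else E_339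
def eT_341_343 (j : ℕ) : ℕ := bif Nat.blt j 342 then E_341 else E_342
def eT_340_343 (j : ℕ) : ℕ := bif Nat.blt j 341 then E_340 else (eT_341_343 j)
def eT_338_343 (j : ℕ) : ℕ := bif Nat.blt j 340 then (eT_338_340 j) else (eT_340_343 j)
def eT_334_343 (j : ℕ) : ℕ := bif Nat.blt j 338 then (eT_334_338 j) else (eT_338_343 j)
def eT_343_345 (j : ℕ) : ℕ := bif Nat.blt j 344 then E_343 else E_344
def eT_345_347 (j : ℕ) : ℕ := bif Nat.blt j 346 then E_345 else E_346
def eT_343_347 (j : ℕ) : ℕ := bif Nat.blt j 345 then (eT_343_345 j) else (eT_345_347 j)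
def eT_347_349 (j : ℕ) : ℕ := bif Nat.blt j 348 then E_347 else E_348
def eT_350_352 (j : ℕ) : ℕ := bif Nat.blt j 351 then E_350 else E_351
def eT_349_352 (j : ℕ) : ℕ := bif Nat.blt j 350 then E_349 else (eT_350_352 j)
def eT_347_352 (j : ℕ) : ℕ := bif Nat.blt j 349 then (eT_347_349 j) else (eT_349_352 j)
def eT_343_352 (j : ℕ) : ℕ := bif Nat.blt j 347 then (eT_343_347 j) else (eT_347_352 j)
def eT_334_352 (j : ℕ) : ℕ := bif Nat.blt j 343 then (eT_334_343 j) else (eT_343_352 j)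
def eT_317_352 (j : ℕ) : ℕ := bif Nat.blt j 334 then (eT_317_334 j) else (eT_334_352 j)
def eT_282_352 (j : ℕ) : ℕ := bif Nat.blt j 317 then (eT_282_317 j) else (eT_317_352 j)
def eT_352_354 (j : ℕ) : ℕ := bif Nat.blt j 353 then E_352 else E_353
def eT_354_356 (j : ℕ) : ℕ := bif Nat.blt j 355 then E_354 else E_355
def eT_352_356 (j : ℕ) : ℕ := bif Nat.blt j 354 then (eT_352_354 j) else (eT_354_356 j)
def eT_356_358 (j : ℕ) : ℕ := bif Nat.blt j 357 then E_356 else E_357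
def eT_358_360 (j : ℕ) : ℕ := bif Nat.blt j 359 then E_358 else E_359
def eT_356_360 (j : ℕ) : ℕ := bif Nat.blt j 358 then (eT_356_358 j) else (eT_358_360 j)
def eT_352_360 (j : ℕ) : ℕ := bif Nat.blt j 356 then (eT_352_356 j) else (eT_356_360 j)
def eT_360_362 (j : ℕ) : ℕ := bif Nat.blt j 361 then E_360 else E_361
def eT_362_364 (j : ℕ) : ℕ := bif Nat.blt j 363 then E_362 else E_363
def eT_360_364 (j : ℕ) : ℕ := bif Nat.blt j 362 then (eT_360_362 j) else (eT_362_364 j)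
def eT_364_366 (j : ℕ) : ℕ := bif Nat.blt j 365 then E_364 else E_365
def eT_367_369 (j : ℕ) : ℕ := bif Nat.blt j 368 then E_367 else E_368
def eT_366_369 (j : ℕ) : ℕ := bif Nat.blt j 367 then E_366 else (eT_367_369 j)
def eT_364_369 (j : ℕ) : ℕ := bif Nat.blt j 366 then (eT_364_366 j) else (eT_366_369 j)
def eT_360_369 (j : ℕ) : ℕ := bif Nat.blt j 364 then (eT_360_364 j) else (eT_364_369 j)
def eT_352_369 (j : ℕ) : ℕ := bif Nat.blt j 360 then (eT_352_360 j) else (eT_360_369 j)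
def eT_369_371 (j : ℕ) : ℕ := bif Nat.blt j 370 then E_369 else E_370
def eT_371_373 (j : ℕ) : ℕ := bif Nat.blt j 372 then E_371 else E_372
def eT_369_373 (j : ℕ) : ℕ := bif Nat.blt j 371 then (eT_369_371 j) else (eT_371_373 j)
def eT_373_375 (j : ℕ) : ℕ := bif Nat.blt j 374 then E_373 else E_374
def eT_376_378 (j : ℕ) : ℕ := bif Nat.blt j 377 then E_376 else E_377
def eT_375_378 (j : ℕ) : ℕ := bif Nat.blt j 376 then E_375 else (eT_376_378 j)
def eT_373_378 (j : ℕ) : ℕ := bif Nat.blt j 375 then (eT_373_375 j) else (eT_375_378 j)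
def eT_369_378 (j : ℕ) : ℕ := bif Nat.blt j 373 then (eT_369_373 j) else (eT_373_378 j)
def eT_378_380 (j : ℕ) : ℕ := bif Nat.blt j 379 then E_378 else E_379
def eT_380_382 (j : ℕ) : ℕ := bif Nat.blt j 381 then E_380 else E_381
def eT_378_382 (j : ℕ) : ℕ := bif Nat.blt j 380 then (eT_378_380 j) else (eT_380_382 j)
def eT_382_384 (j : ℕ) : ℕ := bif Nat.blt j 383 then E_382 else E_383
def eT_385_387 (j : ℕ) : ℕ := bif Nat.blt j 386 then E_385 else E_386
def eT_384_387 (j : ℕ) : ℕ := bif Nat.blt j 385 then E_384 else (eT_385_387 j)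
def eT_382_387 (j : ℕ) : ℕ := bif Nat.blt j 384 then (eT_382_384 j) else (eT_384_387 j)
def eT_378_387 (j : ℕ) : ℕ := bif Nat.blt j 382 then (eT_378_382 j) else (eT_382_387 j)
def eT_369_387 (j : ℕ) : ℕ := bif Nat.blt j 378 then (eT_369_378 j) else (eT_378_387 j)
def eT_352_387 (j : ℕ) : ℕ := bif Nat.blt j 369 then (eT_352_369 j) else (eT_369_387 j)
def eT_387_389 (j : ℕ) : ℕ := bif Nat.blt j 388 then E_387 else E_388
def eT_389_391 (j : ℕ) : ℕ := bif Nat.blt j 390 then E_389 else E_390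
def eT_387_391 (j : ℕ) : ℕ := bif Nat.blt j 389 then (eT_387_389 j) else (eT_389_391 j)
def eT_391_393 (j : ℕ) : ℕ := bif Nat.blt j 392 then E_391 else E_392
def eT_394_396 (j : ℕ) : ℕ := bif Nat.blt j 395 then E_394 else E_395
def eT_393_396 (j : ℕ) : ℕ := bif Nat.blt j 394 then E_393 else (eT_394_396 j)
def eT_391_396 (j : ℕ) : ℕ := bif Nat.blt j 393 then (eT_391_393 j) else (eT_393_396 j)
def eT_387_396 (j : ℕ) : ℕ := bif Nat.blt j 391 then (eT_387_391 j) else (eT_391_396 j)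
def eT_396_398 (j : ℕ) : ℕ := bif Nat.blt j 397 then E_396 else E_397
def eT_398_400 (j : ℕ) : ℕ := bif Nat.blt j 399 then E_398 else E_399
def eT_396_400 (j : ℕ) : ℕ := bif Nat.blt j 398 then (eT_396_398 j) else (eT_398_400 j)
def eT_400_402 (j : ℕ) : ℕ := bif Nat.blt j 401 then E_400 else E_401
def eT_403_405 (j : ℕ) : ℕ := bif Nat.blt j 404 then E_403 else E_404
def eT_402_405 (j : ℕ) : ℕ := bif Nat.blt j 403 then E_402 else (eT_403_405 j)
def eT_400_405 (j : ℕ) : ℕ := bif Nat.blt j 402 then (eT_400_402 j) else (eT_402_405 j)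
def eT_396_405 (j : ℕ) : ℕ := bif Nat.blt j 400 then (eT_396_400 j) else (eT_400_405 j)
def eT_387_405 (j : ℕ) : ℕ := bif Nat.blt j 396 then (eT_387_396 j) else (eT_396_405 j)
def eT_405_407 (j : ℕ) : ℕ := bif Nat.blt j 406 then E_405 else E_406
def eT_407_409 (j : ℕ) : ℕ := bif Nat.blt j 408 then E_407 else E_408
def eT_405_409 (j : ℕ) : ℕ := bif Nat.blt j 407 then (eT_405_407 j) else (eT_407_409 j)
def eT_409_411 (j : ℕ) : ℕ := bif Nat.blt j 410 then E_409 else E_410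
def eT_412_414 (j : ℕ) : ℕ := bif Nat.blt j 413 then E_412 else E_413
def eT_411_414 (j : ℕ) : ℕ := bif Nat.blt j 412 then E_411 else (eT_412_414 j)
def eT_409_414 (j : ℕ) : ℕ := bif Nat.blt j 411 then (eT_409_411 j) else (eT_411_414 j)
def eT_405_414 (j : ℕ) : ℕ := bif Nat.blt j 409 then (eT_405_409 j) else (eT_409_414 j)
def eT_414_416 (j : ℕ) : ℕ := bif Nat.blt j 415 then E_414 else E_415
def eT_416_418 (j : ℕ) : ℕ := bif Nat.blt j 417 then E_416 else E_417
def eT_414_418 (j : ℕ) : ℕ := bif Nat.blt j 416 then (eT_414_416 j) else (eT_416_418 j)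
def eT_418_420 (j : ℕ) : ℕ := bif Nat.blt j 419 then E_418 else E_419
def eT_421_423 (j : ℕ) : ℕ := bif Nat.blt j 422 then E_421 else E_422
def eT_420_423 (j : ℕ) : ℕ := bif Nat.blt j 421 then E_420 else (eT_421_423 j)
def eT_418_423 (j : ℕ) : ℕ := bif Nat.blt j 420 then (eT_418_420 j) else (eT_420_423 j)
def eT_414_423 (j : ℕ) : ℕ := bif Nat.blt j 418 then (eT_414_418 j) else (eT_418_423 j)
def eT_405_423 (j : ℕ) : ℕ := bif Nat.blt j 414 then (eT_405_414 j) else (eT_414_423 j)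
def eT_387_423 (j : ℕ) : ℕ := bif Nat.blt j 405 then (eT_387_405 j) else (eT_405_423 j)
def eT_352_423 (j : ℕ) : ℕ := bif Nat.blt j 387 then (eT_352_387 j) else (eT_387_423 j)
def eT_282_423 (j : ℕ) : ℕ := bif Nat.blt j 352 then (eT_282_352 j) else (eT_352_423 j)
def eT_423_425 (j : ℕ) : ℕ := bif Nat.blt j 424 then E_423 else E_424
def eT_425_427 (j : ℕ) : ℕ := bif Nat.blt j 426 then E_425 else E_426
def eT_423_427 (j : ℕ) : ℕ := bif Nat.blt j 425 then (eT_423_425 j) else (eT_425_427 j)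
def eT_427_429 (j : ℕ) : ℕ := bif Nat.blt j 428 then E_427 else E_428
def eT_429_431 (j : ℕ) : ℕ := bif Nat.blt j 430 then E_429 else E_430
def eT_427_431 (j : ℕ) : ℕ := bif Nat.blt j 429 then (eT_427_429 j) else (eT_429_431 j)
def eT_423_431 (j : ℕ) : ℕ := bif Nat.blt j 427 then (eT_423_427 j) else (eT_427_431 j)
def eT_431_433 (j : ℕ) : ℕ := bif Nat.blt j 432 then E_431 else E_432
def eT_433_435 (j : ℕ) : ℕ := bif Nat.blt j 434 then E_433 else E_434
def eT_431_435 (j : ℕ) : ℕ := bif Nat.blt j 433 then (eT_431_433 j) else (eT_433_435 j)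
def eT_435_437 (j : ℕ) : ℕ := bif Nat.blt j 436 then E_435 else E_436
def eT_438_440 (j : ℕ) : ℕ := bif Nat.blt j 439 then E_438 else E_439
def eT_437_440 (j : ℕ) : ℕ := bif Nat.blt j 438 then E_437 else (eT_438_440 j)
def eT_435_440 (j : ℕ) : ℕ := bif Nat.blt j 437 then (eT_435_437 j) else (eT_437_440 j)
def eT_431_440 (j : ℕ) : ℕ := bif Nat.blt j 435 then (eT_431_435 j) else (eT_435_440 j)
def eT_423_440 (j : ℕ) : ℕ := bif Nat.blt j 431 then (eT_423_431 j) else (eT_431_440 j)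
def eT_440_442 (j : ℕ) : ℕ := bif Nat.blt j 441 then E_440 else E_441
def eT_442_444 (j : ℕ) : ℕ := bif Nat.blt j 443 then E_442 else E_443
def eT_440_444 (j : ℕ) : ℕ := bif Nat.blt j 442 then (eT_440_442 j) else (eT_442_444 j)
def eT_444_446 (j : ℕ) : ℕ := bif Nat.blt j 445 then E_444 else E_445
def eT_447_449 (j : ℕ) : ℕ := bif Nat.blt j 448 then E_447 else E_448
def eT_446_449 (j : ℕ) : ℕ := bif Nat.blt j 447 then E_446 else (eT_447_449 j)
def eT_444_449 (j : ℕ) : ℕ := bif Nat.blt j 446 then (eT_444_446 j) else (eT_446_449 j)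
def eT_440_449 (j : ℕ) : ℕ := bif Nat.blt j 444 then (eT_440_444 j) else (eT_444_449 j)
def eT_449_451 (j : ℕ) : ℕ := bif Nat.blt j 450 then E_449 else E_450
def eT_451_453 (j : ℕ) : ℕ := bif Nat.blt j 452 then E_451 else E_452
def eT_449_453 (j : ℕ) : ℕ := bif Nat.blt j 451 then (eT_449_451 j) else (eT_451_453 j)
def eT_453_455 (j : ℕ) : ℕ := bif Nat.blt j 454 then E_453 else E_454
def eT_456_458 (j : ℕ) : ℕ := bif Nat.blt j 457 then E_456 else E_457
def eT_455_458 (j : ℕ) : ℕ := bif Nat.blt j 456 then E_455 else (eT_456_458 j)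
def eT_453_458 (j : ℕ) : ℕ := bif Nat.blt j 455 then (eT_453_455 j) else (eT_455_458 j)
def eT_449_458 (j : ℕ) : ℕ := bif Nat.blt j 453 then (eT_449_453 j) else (eT_453_458 j)
def eT_440_458 (j : ℕ) : ℕ := bif Nat.blt j 449 then (eT_440_449 j) else (eT_449_458 j)
def eT_423_458 (j : ℕ) : ℕ := bif Nat.blt j 440 then (eT_423_440 j) else (eT_440_458 j)
def eT_458_460 (j : ℕ) : ℕ := bif Nat.blt j 459 then E_458 else E_459
def eT_460_462 (j : ℕ) : ℕ := bif Nat.blt j 461 then E_460 else E_461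
def eT_458_462 (j : ℕ) : ℕ := bif Nat.blt j 460 then (eT_458_460 j) else (eT_460_462 j)
def eT_462_464 (j : ℕ) : ℕ := bif Nat.blt j 463 then E_462 else E_463
def eT_465_467 (j : ℕ) : ℕ := bif Nat.blt j 466 then E_465 else E_466
def eT_464_467 (j : ℕ) : ℕ := bif Nat.blt j 465 then E_464 else (eT_465_467 j)
def eT_462_467 (j : ℕ) : ℕ := bif Nat.blt j 464 then (eT_462_464 j) else (eT_464_467 j)
def eT_458_467 (j : ℕ) : ℕ := bif Nat.blt j 462 then (eT_458_462 j) else (eT_462_467 j)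
def eT_467_469 (j : ℕ) : ℕ := bif Nat.blt j 468 then E_467 else E_468
def eT_469_471 (j : ℕ) : ℕ := bif Nat.blt j 470 then E_469 else E_470
def eT_467_471 (j : ℕ) : ℕ := bif Nat.blt j 469 then (eT_467_469 j) else (eT_469_471 j)
def eT_471_473 (j : ℕ) : ℕ := bif Nat.blt j 472 then E_471 else E_472
def eT_474_476 (j : ℕ) : ℕ := bif Nat.blt j 475 then E_474 else E_475
def eT_473_476 (j : ℕ) : ℕ := bif Nat.blt j 474 then E_473 else (eT_474_476 j)
def eT_471_476 (j : ℕ) : ℕ := bif Nat.blt j 473 then (eT_471_473 j) else (eT_473_476 j)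
def eT_467_476 (j : ℕ) : ℕ := bif Nat.blt j 471 then (eT_467_471 j) else (eT_471_476 j)
def eT_458_476 (j : ℕ) : ℕ := bif Nat.blt j 467 then (eT_458_467 j) else (eT_467_476 j)
def eT_476_478 (j : ℕ) : ℕ := bif Nat.blt j 477 then E_476 else E_477
def eT_478_480 (j : ℕ) : ℕ := bif Nat.blt j 479 then E_478 else E_479
def eT_476_480 (j : ℕ) : ℕ := bif Nat.blt j 478 then (eT_476_478 j) else (eT_478_480 j)
def eT_480_482 (j : ℕ) : ℕ := bif Nat.blt j 481 then E_480 else E_481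
def eT_483_485 (j : ℕ) : ℕ := bif Nat.blt j 484 then E_483 else E_484
def eT_482_485 (j : ℕ) : ℕ := bif Nat.blt j 483 then E_482 else (eT_483_485 j)
def eT_480_485 (j : ℕ) : ℕ := bif Nat.blt j 482 then (eT_480_482 j) else (eT_482_485 j)
def eT_476_485 (j : ℕ) : ℕ := bif Nat.blt j 480 then (eT_476_480 j) else (eT_480_485 j)
def eT_485_487 (j : ℕ) : ℕ := bif Nat.blt j 486 then E_485 else E_486
def eT_487_489 (j : ℕ) : ℕ := bif Nat.blt j 488 then E_487 else E_488
def eT_485_489 (j : ℕ) : ℕ := bif Nat.blt j 487 then (eT_485_487 j) else (eT_487_489 j)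
def eT_489_491 (j : ℕ) : ℕ := bif Nat.blt j 490 then E_489 else E_490
def eT_492_494 (j : ℕ) : ℕ := bif Nat.blt j 493 then E_492 else E_493
def eT_491_494 (j : ℕ) : ℕ := bif Nat.blt j 492 then E_491 else (eT_492_494 j)
def eT_489_494 (j : ℕ) : ℕ := bif Nat.blt j 491 then (eT_489_491 j) else (eT_491_494 j)
def eT_485_494 (j : ℕ) : ℕ := bif Nat.blt j 489 then (eT_485_489 j) else (eT_489_494 j)
def eT_476_494 (j : ℕ) : ℕ := bif Nat.blt j 485 then (eT_476_485 j) else (eT_485_494 j)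
def eT_458_494 (j : ℕ) : ℕ := bif Nat.blt j 476 then (eT_458_476 j) else (eT_476_494 j)
def eT_423_494 (j : ℕ) : ℕ := bif Nat.blt j 458 then (eT_423_458 j) else (eT_458_494 j)
def eT_494_496 (j : ℕ) : ℕ := bif Nat.blt j 495 then E_494 else E_495
def eT_496_498 (j : ℕ) : ℕ := bif Nat.blt j 497 then E_496 else E_497
def eT_494_498 (j : ℕ) : ℕ := bif Nat.blt j 496 then (eT_494_496 j) else (eT_496_498 j)
def eT_498_500 (j : ℕ) : ℕ := bif Nat.blt j 499 then E_498 else E_499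
def eT_500_502 (j : ℕ) : ℕ := bif Nat.blt j 501 then E_500 else E_501
def eT_498_502 (j : ℕ) : ℕ := bif Nat.blt j 500 then (eT_498_500 j) else (eT_500_502 j)
def eT_494_502 (j : ℕ) : ℕ := bif Nat.blt j 498 then (eT_494_498 j) else (eT_498_502 j)
def eT_502_504 (j : ℕ) : ℕ := bif Nat.blt j 503 then E_502 else E_503
def eT_504_506 (j : ℕ) : ℕ := bif Nat.blt j 505 then E_504 else E_505
def eT_502_506 (j : ℕ) : ℕ := bif Nat.blt j 504 then (eT_502_504 j) else (eT_504_506 j)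
def eT_506_508 (j : ℕ) : ℕ := bif Nat.blt j 507 then E_506 else E_507
def eT_509_511 (j : ℕ) : ℕ := bif Nat.blt j 510 then E_509 else E_510
def eT_508_511 (j : ℕ) : ℕ := bif Nat.blt j 509 then E_508 else (eT_509_511 j)
def eT_506_511 (j : ℕ) : ℕ := bif Nat.blt j 508 then (eT_506_508 j) else (eT_508_511 j)
def eT_502_511 (j : ℕ) : ℕ := bif Nat.blt j 506 then (eT_502_506 j) else (eT_506_511 j)
def eT_494_511 (j : ℕ) : ℕ := bif Nat.blt j 502 then (eT_494_502 j) else (eT_502_511 j)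
def eT_511_513 (j : ℕ) : ℕ := bif Nat.blt j 512 then E_511 else E_512
def eT_513_515 (j : ℕ) : ℕ := bif Nat.blt j 514 then E_513 else E_514
def eT_511_515 (j : ℕ) : ℕ := bif Nat.blt j 513 then (eT_511_513 j) else (eT_513_515 j)
def eT_515_517 (j : ℕ) : ℕ := bif Nat.blt j 516 then E_515 else E_516
def eT_518_520 (j : ℕ) : ℕ := bif Nat.blt j 519 then E_518 else E_519
def eT_517_520 (j : ℕ) : ℕ := bif Nat.blt j 518 then E_517 else (eT_518_520 j)
def eT_515_520 (j : ℕ) : ℕ := bif Nat.blt j 517 then (eT_515_517 j) else (eT_517_520 j)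
def eT_511_520 (j : ℕ) : ℕ := bif Nat.blt j 515 then (eT_511_515 j) else (eT_515_520 j)
def eT_520_522 (j : ℕ) : ℕ := bif Nat.blt j 521 then E_520 else E_521
def eT_522_524 (j : ℕ) : ℕ := bif Nat.blt j 523 then E_522 else E_523
def eT_520_524 (j : ℕ) : ℕ := bif Nat.blt j 522 then (eT_520_522 j) else (eT_522_524 j)
def eT_524_526 (j : ℕ) : ℕ := bif Nat.blt j 525 then E_524 else E_525
def eT_527_529 (j : ℕ) : ℕ := bif Nat.blt j 528 then E_527 else E_528
def eT_526_529 (j : ℕ) : ℕ := bif Nat.blt j 527 then E_526 else (eT_527_529 j)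
def eT_524_529 (j : ℕ) : ℕ := bif Nat.blt j 526 then (eT_524_526 j) else (eT_526_529 j)
def eT_520_529 (j : ℕ) : ℕ := bif Nat.blt j 524 then (eT_520_524 j) else (eT_524_529 j)
def eT_511_529 (j : ℕ) : ℕ := bif Nat.blt j 520 then (eT_511_520 j) else (eT_520_529 j)
def eT_494_529 (j : ℕ) : ℕ := bif Nat.blt j 511 then (eT_494_511 j) else (eT_511_529 j)
def eT_529_531 (j : ℕ) : ℕ := bif Nat.blt j 530 then E_529 else E_530
def eT_531_533 (j : ℕ) : ℕ := bif Nat.blt j 532 then E_531 else E_532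
def eT_529_533 (j : ℕ) : ℕ := bif Nat.blt j 531 then (eT_529_531 j) else (eT_531_533 j)
def eT_533_535 (j : ℕ) : ℕ := bif Nat.blt j 534 then E_533 else E_534
def eT_536_538 (j : ℕ) : ℕ := bif Nat.blt j 537 then E_536 else E_537
def eT_535_538 (j : ℕ) : ℕ := bif Nat.blt j 536 then E_535 else (eT_536_538 j)
def eT_533_538 (j : ℕ) : ℕ := bif Nat.blt j 535 then (eT_533_535 j) else (eT_535_538 j)
def eT_529_538 (j : ℕ) : ℕ := bif Nat.blt j 533 then (eT_529_533 j) else (eT_533_538 j)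
def eT_538_540 (j : ℕ) : ℕ := bif Nat.blt j 539 then E_538 else E_539
def eT_540_542 (j : ℕ) : ℕ := bif Nat.blt j 541 then E_540 else E_541
def eT_538_542 (j : ℕ) : ℕ := bif Nat.blt j 540 then (eT_538_540 j) else (eT_540_542 j)
def eT_542_544 (j : ℕ) : ℕ := bif Nat.blt j 543 then E_542 else E_543
def eT_545_547 (j : ℕ) : ℕ := bif Nat.blt j 546 then E_545 else E_546
def eT_544_547 (j : ℕ) : ℕ := bif Nat.blt j 545 then E_544 else (eT_545_547 j)
def eT_542_547 (j : ℕ) : ℕ := bif Nat.blt j 544 then (eT_542_544 j) else (eT_544_547 j)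
def eT_538_547 (j : ℕ) : ℕ := bif Nat.blt j 542 then (eT_538_542 j) else (eT_542_547 j)
def eT_529_547 (j : ℕ) : ℕ := bif Nat.blt j 538 then (eT_529_538 j) else (eT_538_547 j)
def eT_547_549 (j : ℕ) : ℕ := bif Nat.blt j 548 then E_547 else E_548
def eT_549_551 (j : ℕ) : ℕ := bif Nat.blt j 550 then E_549 else E_550
def eT_547_551 (j : ℕ) : ℕ := bif Nat.blt j 549 then (eT_547_549 j) else (eT_549_551 j)
def eT_551_553 (j : ℕ) : ℕ := bif Nat.blt j 552 then E_551 else E_552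
def eT_554_556 (j : ℕ) : ℕ := bif Nat.blt j 555 then E_554 else E_555
def eT_553_556 (j : ℕ) : ℕ := bif Nat.blt j 554 then E_553 else (eT_554_556 j)
def eT_551_556 (j : ℕ) : ℕ := bif Nat.blt j 553 then (eT_551_553 j) else (eT_553_556 j)
def eT_547_556 (j : ℕ) : ℕ := bif Nat.blt j 551 then (eT_547_551 j) else (eT_551_556 j)
def eT_556_558 (j : ℕ) : ℕ := bif Nat.blt j 557 then E_556 else E_557
def eT_558_560 (j : ℕ) : ℕ := bif Nat.blt j 559 then E_558 else E_559
def eT_556_560 (j : ℕ) : ℕ := bif Nat.blt j 558 then (eT_556_558 j) else (eT_558_560 j)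
def eT_560_562 (j : ℕ) : ℕ := bif Nat.blt j 561 then E_560 else E_561
def eT_563_565 (j : ℕ) : ℕ := bif Nat.blt j 564 then E_563 else E_564
def eT_562_565 (j : ℕ) : ℕ := bif Nat.blt j 563 then E_562 else (eT_563_565 j)
def eT_560_565 (j : ℕ) : ℕ := bif Nat.blt j 562 then (eT_560_562 j) else (eT_562_565 j)
def eT_556_565 (j : ℕ) : ℕ := bif Nat.blt j 560 then (eT_556_560 j) else (eT_560_565 j)
def eT_547_565 (j : ℕ) : ℕ := bif Nat.blt j 556 then (eT_547_556 j) else (eT_556_565 j)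
def eT_529_565 (j : ℕ) : ℕ := bif Nat.blt j 547 then (eT_529_547 j) else (eT_547_565 j)
def eT_494_565 (j : ℕ) : ℕ := bif Nat.blt j 529 then (eT_494_529 j) else (eT_529_565 j)
def eT_423_565 (j : ℕ) : ℕ := bif Nat.blt j 494 then (eT_423_494 j) else (eT_494_565 j)
def eT_282_565 (j : ℕ) : ℕ := bif Nat.blt j 423 then (eT_282_423 j) else (eT_423_565 j)
def eT_0_565 (j : ℕ) : ℕ := bif Nat.blt j 282 then (eT_0_282 j) else (eT_282_565 j)
def eT (j : ℕ) : ℕ := (eT_0_565 j)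
noncomputable def chunkF (h : ℕ) : ℕ := Nat.rec (motive := fun _ => ℕ) (eT 0) (fun n _ => eT (Nat.succ n)) h
noncomputable def Eo (r : ℕ) : ℕ := Nat.land (Nat.shiftRight (chunkF (Nat.shiftRight r 8)) (Nat.mul (Nat.land r 255) 54)) 18014398509481983
def invT : ℕ := 0xffef7cefae78df6d74cf2c70beeb6caeaa689e69648e28607de75c6da6585d65544d24503ce34c2ca2481c61440c2040
def inv (y : ℕ) : ℕ := invOf invT y
def Wt_0_2 (j : ℕ) : List ℕ := bif Nat.blt j 1 then [nat_lit 1, nat_lit 3, nat_lit 0, nat_lit 4, nat_lit 0, nat_lit 3, nat_lit 1, nat_lit 3, nat_lit 0, nat_lit 4, nat_lit 0, nat_lit 3] else [nat_lit 0, nat_lit 3, nat_lit 0, nat_lit 4, nat_lit 2, nat_lit 3, nat_lit 0, nat_lit 3, nat_lit 0, nat_lit 4, nat_lit 2, nat_lit 3]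
def Wt_3_5 (j : ℕ) : List ℕ := bif Nat.blt j 4 then [nat_lit 0, nat_lit 1, nat_lit 2, nat_lit 0, nat_lit 4, nat_lit 0, nat_lit 3, nat_lit 1, nat_lit 3, nat_lit 0, nat_lit 4, nat_lit 0, nat_lit 2, nat_lit 1] else [nat_lit 4, nat_lit 2, nat_lit 3, nat_lit 2, nat_lit 4, nat_lit 2, nat_lit 3, nat_lit 2, nat_lit 4, nat_lit 2, nat_lit 3, nat_lit 2]
def Wt_2_5 (j : ℕ) : List ℕ := bif Nat.blt j 3 then [nat_lit 1, nat_lit 3, nat_lit 1, nat_lit 3, nat_lit 1, nat_lit 3, nat_lit 1, nat_lit 3] else (Wt_3_5 j)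
def Wt_0_5 (j : ℕ) : List ℕ := bif Nat.blt j 2 then (Wt_0_2 j) else (Wt_2_5 j)
def Wt_6_8 (j : ℕ) : List ℕ := bif Nat.blt j 7 then [nat_lit 1, nat_lit 3, nat_lit 4, nat_lit 0, nat_lit 1, nat_lit 4, nat_lit 0, nat_lit 1, nat_lit 0, nat_lit 3, nat_lit 0, nat_lit 4, nat_lit 3, nat_lit 1, nat_lit 2, nat_lit 4] else [nat_lit 1, nat_lit 0, nat_lit 3, nat_lit 1, nat_lit 2, nat_lit 0, nat_lit 1, nat_lit 3, nat_lit 1, nat_lit 2, nat_lit 0]
def Wt_5_8 (j : ℕ) : List ℕ := bif Nat.blt j 6 then [nat_lit 2, nat_lit 0, nat_lit 1, nat_lit 2, nat_lit 4, nat_lit 3, nat_lit 2, nat_lit 0, nat_lit 3, nat_lit 0, nat_lit 3, nat_lit 1, nat_lit 4, nat_lit 1, nat_lit 3, nat_lit 4, nat_lit 1] else (Wt_6_8 j)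
def Wt_9_11 (j : ℕ) : List ℕ := bif Nat.blt j 10 then [nat_lit 0, nat_lit 1, nat_lit 3, nat_lit 1, nat_lit 2, nat_lit 0, nat_lit 1, nat_lit 0, nat_lit 3, nat_lit 1, nat_lit 2] else [nat_lit 4, nat_lit 0, nat_lit 1, nat_lit 0, nat_lit 3, nat_lit 0, nat_lit 4, nat_lit 3, nat_lit 1, nat_lit 2, nat_lit 4, nat_lit 1, nat_lit 3, nat_lit 4, nat_lit 0, nat_lit 1]
def Wt_8_11 (j : ℕ) : List ℕ := bif Nat.blt j 9 then [nat_lit 3, nat_lit 1, nat_lit 2, nat_lit 0, nat_lit 1, nat_lit 0, nat_lit 3, nat_lit 1, nat_lit 2, nat_lit 0, nat_lit 1] else (Wt_9_11 j)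
def Wt_5_11 (j : ℕ) : List ℕ := bif Nat.blt j 8 then (Wt_5_8 j) else (Wt_8_11 j)
def Wt_0_11 (j : ℕ) : List ℕ := bif Nat.blt j 5 then (Wt_0_5 j) else (Wt_5_11 j)
def Wt_11_13 (j : ℕ) : List ℕ := bif Nat.blt j 12 then [nat_lit 1, nat_lit 2, nat_lit 0, nat_lit 1, nat_lit 3, nat_lit 1, nat_lit 2, nat_lit 0, nat_lit 1, nat_lit 0, nat_lit 3] else [nat_lit 2, nat_lit 0, nat_lit 1, nat_lit 0, nat_lit 3, nat_lit 1, nat_lit 2, nat_lit 0, nat_lit 1, nat_lit 3, nat_lit 1]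
def Wt_14_16 (j : ℕ) : List ℕ := bif Nat.blt j 15 then [nat_lit 2, nat_lit 1, nat_lit 3, nat_lit 0, nat_lit 1, nat_lit 0, nat_lit 2, nat_lit 1, nat_lit 3, nat_lit 1, nat_lit 0] else [nat_lit 1, nat_lit 3, nat_lit 1, nat_lit 0, nat_lit 2, nat_lit 1, nat_lit 3, nat_lit 0, nat_lit 1, nat_lit 0, nat_lit 2]
def Wt_13_16 (j : ℕ) : List ℕ := bif Nat.blt j 14 then [nat_lit 0, nat_lit 3, nat_lit 1, nat_lit 2, nat_lit 0, nat_lit 1, nat_lit 3, nat_lit 1, nat_lit 2, nat_lit 0, nat_lit 1] else (Wt_14_16 j)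
def Wt_11_16 (j : ℕ) : List ℕ := bif Nat.blt j 13 then (Wt_11_13 j) else (Wt_13_16 j)
def Wt_17_19 (j : ℕ) : List ℕ := bif Nat.blt j 18 then [nat_lit 0, nat_lit 3, nat_lit 0, nat_lit 2, nat_lit 3, nat_lit 4, nat_lit 2, nat_lit 1, nat_lit 0, nat_lit 2, nat_lit 1, nat_lit 4, nat_lit 3, nat_lit 1, nat_lit 4, nat_lit 1, nat_lit 3] else [nat_lit 0, nat_lit 3, nat_lit 2, nat_lit 4, nat_lit 0, nat_lit 3, nat_lit 0, nat_lit 3, nat_lit 2, nat_lit 4, nat_lit 0, nat_lit 3]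
def Wt_16_19 (j : ℕ) : List ℕ := bif Nat.blt j 17 then [nat_lit 3, nat_lit 0, nat_lit 1, nat_lit 0, nat_lit 2, nat_lit 1, nat_lit 3, nat_lit 1, nat_lit 0, nat_lit 2, nat_lit 1] else (Wt_17_19 j)
def Wt_20_22 (j : ℕ) : List ℕ := bif Nat.blt j 21 then [nat_lit 63, nat_lit 1, nat_lit 2, nat_lit 0, nat_lit 4, nat_lit 0, nat_lit 3, nat_lit 1, nat_lit 3, nat_lit 0, nat_lit 4, nat_lit 0, nat_lit 2, nat_lit 1, nat_lit 0] else [nat_lit 0, nat_lit 0, nat_lit 63]
def Wt_19_22 (j : ℕ) : List ℕ := bif Nat.blt j 20 then [nat_lit 3, nat_lit 1, nat_lit 2, nat_lit 4, nat_lit 1, nat_lit 3, nat_lit 4, nat_lit 0, nat_lit 1, nat_lit 4, nat_lit 0, nat_lit 1, nat_lit 0, nat_lit 3, nat_lit 0, nat_lit 4] else (Wt_20_22 j)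
def Wt_16_22 (j : ℕ) : List ℕ := bif Nat.blt j 19 then (Wt_16_19 j) else (Wt_19_22 j)
def Wt_11_22 (j : ℕ) : List ℕ := bif Nat.blt j 16 then (Wt_11_16 j) else (Wt_16_22 j)
def Wt_0_22 (j : ℕ) : List ℕ := bif Nat.blt j 11 then (Wt_0_11 j) else (Wt_11_22 j)
def Wt_22_24 (j : ℕ) : List ℕ := bif Nat.blt j 23 then [nat_lit 3, nat_lit 0, nat_lit 4, nat_lit 3, nat_lit 1, nat_lit 2, nat_lit 4, nat_lit 1, nat_lit 3, nat_lit 4, nat_lit 0, nat_lit 1, nat_lit 4, nat_lit 0, nat_lit 1, nat_lit 0] else [nat_lit 3, nat_lit 1, nat_lit 3, nat_lit 1, nat_lit 3, nat_lit 1, nat_lit 3, nat_lit 1]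
def Wt_25_27 (j : ℕ) : List ℕ := bif Nat.blt j 26 then [nat_lit 63, nat_lit 0, nat_lit 1, nat_lit 2, nat_lit 0, nat_lit 4, nat_lit 0, nat_lit 3, nat_lit 1, nat_lit 3, nat_lit 0, nat_lit 4, nat_lit 0, nat_lit 2, nat_lit 1] else [nat_lit 63, nat_lit 1, nat_lit 63, nat_lit 1]
def Wt_24_27 (j : ℕ) : List ℕ := bif Nat.blt j 25 then [nat_lit 0, nat_lit 4, nat_lit 0, nat_lit 3, nat_lit 1, nat_lit 3, nat_lit 0, nat_lit 4, nat_lit 0, nat_lit 3, nat_lit 1, nat_lit 3] else (Wt_25_27 j)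
def Wt_22_27 (j : ℕ) : List ℕ := bif Nat.blt j 24 then (Wt_22_24 j) else (Wt_24_27 j)
def Wt_28_30 (j : ℕ) : List ℕ := bif Nat.blt j 29 then [nat_lit 2, nat_lit 2, nat_lit 63] else [nat_lit 63, nat_lit 2, nat_lit 0, nat_lit 2, nat_lit 1, nat_lit 0, nat_lit 2, nat_lit 0, nat_lit 1, nat_lit 0, nat_lit 1, nat_lit 0, nat_lit 1, nat_lit 0, nat_lit 1, nat_lit 2, nat_lit 0, nat_lit 1, nat_lit 0, nat_lit 1]
def Wt_27_30 (j : ℕ) : List ℕ := bif Nat.blt j 28 then [nat_lit 63, nat_lit 2, nat_lit 63, nat_lit 2] else (Wt_28_30 j)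
def Wt_31_33 (j : ℕ) : List ℕ := bif Nat.blt j 32 then [nat_lit 0, nat_lit 1, nat_lit 0, nat_lit 2, nat_lit 1, nat_lit 3, nat_lit 1, nat_lit 0, nat_lit 2, nat_lit 1, nat_lit 3] else [nat_lit 0, nat_lit 4, nat_lit 2, nat_lit 3, nat_lit 0, nat_lit 3, nat_lit 0, nat_lit 4, nat_lit 2, nat_lit 3, nat_lit 0, nat_lit 3]
def Wt_30_33 (j : ℕ) : List ℕ := bif Nat.blt j 31 then [nat_lit 1, nat_lit 1, nat_lit 63] else (Wt_31_33 j)
def Wt_27_33 (j : ℕ) : List ℕ := bif Nat.blt j 30 then (Wt_27_30 j) else (Wt_30_33 j)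
def Wt_22_33 (j : ℕ) : List ℕ := bif Nat.blt j 27 then (Wt_22_27 j) else (Wt_27_33 j)
def Wt_34_36 (j : ℕ) : List ℕ := bif Nat.blt j 35 then [nat_lit 3, nat_lit 4, nat_lit 2, nat_lit 1, nat_lit 0, nat_lit 2, nat_lit 1, nat_lit 4, nat_lit 3, nat_lit 1, nat_lit 4, nat_lit 1, nat_lit 3, nat_lit 0, nat_lit 3, nat_lit 0, nat_lit 2] else [nat_lit 63, nat_lit 2, nat_lit 0, nat_lit 4, nat_lit 0, nat_lit 3, nat_lit 1, nat_lit 3, nat_lit 0, nat_lit 4, nat_lit 0, nat_lit 2, nat_lit 1, nat_lit 0, nat_lit 1]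
def Wt_33_36 (j : ℕ) : List ℕ := bif Nat.blt j 34 then [nat_lit 0, nat_lit 2, nat_lit 1, nat_lit 3, nat_lit 1, nat_lit 0, nat_lit 2, nat_lit 1, nat_lit 3, nat_lit 0, nat_lit 1] else (Wt_34_36 j)
def Wt_37_39 (j : ℕ) : List ℕ := bif Nat.blt j 38 then [nat_lit 3, nat_lit 0, nat_lit 3, nat_lit 2, nat_lit 4, nat_lit 0, nat_lit 3, nat_lit 0, nat_lit 3, nat_lit 2, nat_lit 4, nat_lit 0] else [nat_lit 3, nat_lit 1, nat_lit 3, nat_lit 0, nat_lit 4, nat_lit 0, nat_lit 3, nat_lit 1, nat_lit 3, nat_lit 0, nat_lit 4, nat_lit 0]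
def Wt_36_39 (j : ℕ) : List ℕ := bif Nat.blt j 37 then [nat_lit 63, nat_lit 0, nat_lit 63, nat_lit 0] else (Wt_37_39 j)
def Wt_33_39 (j : ℕ) : List ℕ := bif Nat.blt j 36 then (Wt_33_36 j) else (Wt_36_39 j)
def Wt_40_42 (j : ℕ) : List ℕ := bif Nat.blt j 41 then [nat_lit 3, nat_lit 0, nat_lit 4, nat_lit 0, nat_lit 3, nat_lit 1, nat_lit 3, nat_lit 0, nat_lit 4, nat_lit 0, nat_lit 3, nat_lit 1] else [nat_lit 2, nat_lit 4, nat_lit 0, nat_lit 3, nat_lit 0, nat_lit 3, nat_lit 2, nat_lit 4, nat_lit 0, nat_lit 3, nat_lit 0, nat_lit 3]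
def Wt_39_42 (j : ℕ) : List ℕ := bif Nat.blt j 40 then [nat_lit 3, nat_lit 2, nat_lit 4, nat_lit 0, nat_lit 3, nat_lit 0, nat_lit 3, nat_lit 2, nat_lit 4, nat_lit 0, nat_lit 3, nat_lit 0] else (Wt_40_42 j)
def Wt_43_45 (j : ℕ) : List ℕ := bif Nat.blt j 44 then [nat_lit 1, nat_lit 0, nat_lit 2, nat_lit 1, nat_lit 3, nat_lit 1, nat_lit 0, nat_lit 2, nat_lit 1, nat_lit 3, nat_lit 0] else [nat_lit 1, nat_lit 3, nat_lit 0, nat_lit 4, nat_lit 0, nat_lit 2, nat_lit 1, nat_lit 0, nat_lit 1, nat_lit 2, nat_lit 0, nat_lit 4, nat_lit 0, nat_lit 3]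
def Wt_42_45 (j : ℕ) : List ℕ := bif Nat.blt j 43 then [nat_lit 2, nat_lit 3, nat_lit 2, nat_lit 4, nat_lit 2, nat_lit 3, nat_lit 2, nat_lit 4, nat_lit 2, nat_lit 3, nat_lit 2, nat_lit 4] else (Wt_43_45 j)
def Wt_39_45 (j : ℕ) : List ℕ := bif Nat.blt j 42 then (Wt_39_42 j) else (Wt_42_45 j)
def Wt_33_45 (j : ℕ) : List ℕ := bif Nat.blt j 39 then (Wt_33_39 j) else (Wt_39_45 j)
def Wt_22_45 (j : ℕ) : List ℕ := bif Nat.blt j 33 then (Wt_22_33 j) else (Wt_33_45 j)
def Wt_0_45 (j : ℕ) : List ℕ := bif Nat.blt j 22 then (Wt_0_22 j) else (Wt_22_45 j)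
def Wt_45_47 (j : ℕ) : List ℕ := bif Nat.blt j 46 then [nat_lit 63, nat_lit 0, nat_lit 4, nat_lit 0, nat_lit 3, nat_lit 1, nat_lit 3, nat_lit 0, nat_lit 4, nat_lit 0, nat_lit 3, nat_lit 1, nat_lit 3] else [nat_lit 63, nat_lit 3, nat_lit 63, nat_lit 3]
def Wt_48_50 (j : ℕ) : List ℕ := bif Nat.blt j 49 then [nat_lit 1, nat_lit 0, nat_lit 2, nat_lit 1, nat_lit 3, nat_lit 0, nat_lit 1, nat_lit 0, nat_lit 2, nat_lit 1, nat_lit 3] else [nat_lit 2, nat_lit 0, nat_lit 2, nat_lit 1, nat_lit 0, nat_lit 2, nat_lit 0, nat_lit 1, nat_lit 0, nat_lit 1, nat_lit 0, nat_lit 1, nat_lit 0, nat_lit 1, nat_lit 2, nat_lit 0, nat_lit 1, nat_lit 0, nat_lit 1]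
def Wt_47_50 (j : ℕ) : List ℕ := bif Nat.blt j 48 then [nat_lit 63, nat_lit 2, nat_lit 0, nat_lit 1, nat_lit 3, nat_lit 1, nat_lit 2, nat_lit 0, nat_lit 1, nat_lit 0, nat_lit 3, nat_lit 1] else (Wt_48_50 j)
def Wt_45_50 (j : ℕ) : List ℕ := bif Nat.blt j 47 then (Wt_45_47 j) else (Wt_47_50 j)
def Wt_51_53 (j : ℕ) : List ℕ := bif Nat.blt j 52 then [nat_lit 0, nat_lit 2, nat_lit 1, nat_lit 3, nat_lit 0, nat_lit 1, nat_lit 0, nat_lit 2, nat_lit 1, nat_lit 3, nat_lit 1] else [nat_lit 63, nat_lit 3, nat_lit 1, nat_lit 2, nat_lit 0, nat_lit 1, nat_lit 3, nat_lit 1, nat_lit 2, nat_lit 0, nat_lit 1, nat_lit 0]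
def Wt_50_53 (j : ℕ) : List ℕ := bif Nat.blt j 51 then [nat_lit 1, nat_lit 2, nat_lit 0, nat_lit 2, nat_lit 1, nat_lit 0, nat_lit 1, nat_lit 0, nat_lit 2, nat_lit 1, nat_lit 0, nat_lit 1, nat_lit 0, nat_lit 1, nat_lit 0, nat_lit 1, nat_lit 0, nat_lit 2, nat_lit 0] else (Wt_51_53 j)
def Wt_54_56 (j : ℕ) : List ℕ := bif Nat.blt j 55 then [nat_lit 3, nat_lit 1, nat_lit 2, nat_lit 0, nat_lit 1, nat_lit 3, nat_lit 1, nat_lit 2, nat_lit 0, nat_lit 1, nat_lit 0] else [nat_lit 2, nat_lit 3, nat_lit 0, nat_lit 3, nat_lit 0, nat_lit 4, nat_lit 2, nat_lit 3, nat_lit 0, nat_lit 3, nat_lit 0, nat_lit 4]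
def Wt_53_56 (j : ℕ) : List ℕ := bif Nat.blt j 54 then [nat_lit 1, nat_lit 3, nat_lit 1, nat_lit 2, nat_lit 0, nat_lit 1, nat_lit 0, nat_lit 3, nat_lit 1, nat_lit 2, nat_lit 0] else (Wt_54_56 j)
def Wt_50_56 (j : ℕ) : List ℕ := bif Nat.blt j 53 then (Wt_50_53 j) else (Wt_53_56 j)
def Wt_45_56 (j : ℕ) : List ℕ := bif Nat.blt j 50 then (Wt_45_50 j) else (Wt_50_56 j)
def Wt_56_58 (j : ℕ) : List ℕ := bif Nat.blt j 57 then [nat_lit 2, nat_lit 4, nat_lit 2, nat_lit 3, nat_lit 2, nat_lit 4, nat_lit 2, nat_lit 3, nat_lit 2, nat_lit 4, nat_lit 2, nat_lit 3] else [nat_lit 2, nat_lit 0, nat_lit 4, nat_lit 0, nat_lit 3, nat_lit 1, nat_lit 3, nat_lit 0, nat_lit 4, nat_lit 0, nat_lit 2, nat_lit 1, nat_lit 0, nat_lit 1]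
def Wt_59_61 (j : ℕ) : List ℕ := bif Nat.blt j 60 then [nat_lit 63, nat_lit 3, nat_lit 0, nat_lit 4, nat_lit 0, nat_lit 3, nat_lit 1, nat_lit 3, nat_lit 0, nat_lit 4, nat_lit 0, nat_lit 3, nat_lit 1] else [nat_lit 3, nat_lit 3, nat_lit 63]
def Wt_58_61 (j : ℕ) : List ℕ := bif Nat.blt j 59 then [nat_lit 3, nat_lit 1, nat_lit 3, nat_lit 0, nat_lit 4, nat_lit 0, nat_lit 2, nat_lit 1, nat_lit 0, nat_lit 1, nat_lit 2, nat_lit 0, nat_lit 4, nat_lit 0] else (Wt_59_61 j)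
def Wt_56_61 (j : ℕ) : List ℕ := bif Nat.blt j 58 then (Wt_56_58 j) else (Wt_58_61 j)
def Wt_62_64 (j : ℕ) : List ℕ := bif Nat.blt j 63 then [nat_lit 2, nat_lit 1, nat_lit 0, nat_lit 1, nat_lit 0, nat_lit 2, nat_lit 1, nat_lit 0, nat_lit 1, nat_lit 0, nat_lit 1, nat_lit 0, nat_lit 1, nat_lit 0, nat_lit 2, nat_lit 0, nat_lit 1, nat_lit 2, nat_lit 0] else [nat_lit 0, nat_lit 3, nat_lit 0, nat_lit 3, nat_lit 2, nat_lit 4, nat_lit 0, nat_lit 3, nat_lit 0, nat_lit 3, nat_lit 2, nat_lit 4]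
def Wt_61_64 (j : ℕ) : List ℕ := bif Nat.blt j 62 then [nat_lit 63, nat_lit 1, nat_lit 2, nat_lit 0, nat_lit 1, nat_lit 3, nat_lit 1, nat_lit 2, nat_lit 0, nat_lit 1, nat_lit 0, nat_lit 3] else (Wt_62_64 j)
def Wt_65_67 (j : ℕ) : List ℕ := bif Nat.blt j 66 then [nat_lit 63, nat_lit 0, nat_lit 4, nat_lit 0, nat_lit 3, nat_lit 1, nat_lit 3, nat_lit 0, nat_lit 4, nat_lit 0, nat_lit 2, nat_lit 1, nat_lit 0, nat_lit 1, nat_lit 2] else [nat_lit 3, nat_lit 1, nat_lit 0, nat_lit 2, nat_lit 1, nat_lit 3, nat_lit 0, nat_lit 1, nat_lit 0, nat_lit 2, nat_lit 1]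
def Wt_64_67 (j : ℕ) : List ℕ := bif Nat.blt j 65 then [nat_lit 0, nat_lit 3, nat_lit 1, nat_lit 3, nat_lit 0, nat_lit 4, nat_lit 0, nat_lit 3, nat_lit 1, nat_lit 3, nat_lit 0, nat_lit 4] else (Wt_65_67 j)
def Wt_61_67 (j : ℕ) : List ℕ := bif Nat.blt j 64 then (Wt_61_64 j) else (Wt_64_67 j)
def Wt_56_67 (j : ℕ) : List ℕ := bif Nat.blt j 61 then (Wt_56_61 j) else (Wt_61_67 j)
def Wt_45_67 (j : ℕ) : List ℕ := bif Nat.blt j 56 then (Wt_45_56 j) else (Wt_56_67 j)
def Wt_67_69 (j : ℕ) : List ℕ := bif Nat.blt j 68 then [nat_lit 1, nat_lit 2, nat_lit 0, nat_lit 1, nat_lit 0, nat_lit 3, nat_lit 1, nat_lit 2, nat_lit 0, nat_lit 1, nat_lit 3] else [nat_lit 63, nat_lit 2, nat_lit 0, nat_lit 1, nat_lit 0, nat_lit 1, nat_lit 2, nat_lit 0, nat_lit 2, nat_lit 1, nat_lit 0, nat_lit 2, nat_lit 0, nat_lit 1, nat_lit 0, nat_lit 1, nat_lit 0, nat_lit 1, nat_lit 0, nat_lit 1]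
def Wt_70_72 (j : ℕ) : List ℕ := bif Nat.blt j 71 then [nat_lit 3, nat_lit 0, nat_lit 4, nat_lit 0, nat_lit 2, nat_lit 1, nat_lit 0, nat_lit 1, nat_lit 2, nat_lit 0, nat_lit 4, nat_lit 0, nat_lit 3, nat_lit 1] else [nat_lit 63, nat_lit 0, nat_lit 3, nat_lit 1, nat_lit 3, nat_lit 0, nat_lit 4, nat_lit 0, nat_lit 3, nat_lit 1, nat_lit 3, nat_lit 0, nat_lit 4]
def Wt_69_72 (j : ℕ) : List ℕ := bif Nat.blt j 70 then [nat_lit 2, nat_lit 0, nat_lit 1, nat_lit 3, nat_lit 1, nat_lit 2, nat_lit 0, nat_lit 1, nat_lit 0, nat_lit 3, nat_lit 1] else (Wt_70_72 j)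
def Wt_67_72 (j : ℕ) : List ℕ := bif Nat.blt j 69 then (Wt_67_69 j) else (Wt_69_72 j)
def Wt_73_75 (j : ℕ) : List ℕ := bif Nat.blt j 74 then [nat_lit 2, nat_lit 1, nat_lit 3, nat_lit 1, nat_lit 0, nat_lit 2, nat_lit 1, nat_lit 3, nat_lit 0, nat_lit 1, nat_lit 0] else [nat_lit 1, nat_lit 0, nat_lit 1, nat_lit 2, nat_lit 0, nat_lit 4, nat_lit 0, nat_lit 3, nat_lit 1, nat_lit 3, nat_lit 0, nat_lit 4, nat_lit 0, nat_lit 2]
def Wt_72_75 (j : ℕ) : List ℕ := bif Nat.blt j 73 then [nat_lit 63, nat_lit 4, nat_lit 63, nat_lit 4] else (Wt_73_75 j)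
def Wt_76_78 (j : ℕ) : List ℕ := bif Nat.blt j 77 then [nat_lit 2, nat_lit 1, nat_lit 0, nat_lit 2, nat_lit 0, nat_lit 1, nat_lit 0, nat_lit 1, nat_lit 0, nat_lit 1, nat_lit 0, nat_lit 1, nat_lit 2, nat_lit 0, nat_lit 1, nat_lit 0, nat_lit 1, nat_lit 2, nat_lit 0] else [nat_lit 63, nat_lit 1, nat_lit 2, nat_lit 0, nat_lit 1, nat_lit 0, nat_lit 1, nat_lit 2, nat_lit 0, nat_lit 2, nat_lit 1, nat_lit 0, nat_lit 2, nat_lit 0, nat_lit 1, nat_lit 0, nat_lit 1, nat_lit 0, nat_lit 1, nat_lit 0]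
def Wt_75_78 (j : ℕ) : List ℕ := bif Nat.blt j 76 then [nat_lit 1, nat_lit 0, nat_lit 2, nat_lit 0, nat_lit 1, nat_lit 2, nat_lit 0, nat_lit 2, nat_lit 1, nat_lit 0, nat_lit 1, nat_lit 0, nat_lit 2, nat_lit 1, nat_lit 0, nat_lit 1, nat_lit 0, nat_lit 1, nat_lit 0] else (Wt_76_78 j)
def Wt_72_78 (j : ℕ) : List ℕ := bif Nat.blt j 75 then (Wt_72_75 j) else (Wt_75_78 j)
def Wt_67_78 (j : ℕ) : List ℕ := bif Nat.blt j 72 then (Wt_67_72 j) else (Wt_72_78 j)
def Wt_79_81 (j : ℕ) : List ℕ := bif Nat.blt j 80 then [nat_lit 1, nat_lit 4, nat_lit 2, nat_lit 1, nat_lit 3, nat_lit 4, nat_lit 0, nat_lit 3, nat_lit 0, nat_lit 1, nat_lit 0, nat_lit 4, nat_lit 1, nat_lit 0, nat_lit 4, nat_lit 3] else [nat_lit 1, nat_lit 2, nat_lit 0, nat_lit 1, nat_lit 0, nat_lit 1, nat_lit 2, nat_lit 0, nat_lit 2, nat_lit 1, nat_lit 0, nat_lit 2, nat_lit 0, nat_lit 1, nat_lit 0, nat_lit 1, nat_lit 0, nat_lit 1, nat_lit 0]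
def Wt_78_81 (j : ℕ) : List ℕ := bif Nat.blt j 79 then [nat_lit 1, nat_lit 2, nat_lit 0, nat_lit 4, nat_lit 0, nat_lit 3, nat_lit 1, nat_lit 3, nat_lit 0, nat_lit 4, nat_lit 0, nat_lit 2, nat_lit 1, nat_lit 0] else (Wt_79_81 j)
def Wt_82_84 (j : ℕ) : List ℕ := bif Nat.blt j 83 then [nat_lit 2, nat_lit 0, nat_lit 2, nat_lit 1, nat_lit 0, nat_lit 1, nat_lit 0, nat_lit 2, nat_lit 1, nat_lit 0, nat_lit 1, nat_lit 0, nat_lit 1, nat_lit 0, nat_lit 1, nat_lit 0, nat_lit 2, nat_lit 0, nat_lit 1] else [nat_lit 0, nat_lit 1, nat_lit 2, nat_lit 0, nat_lit 1, nat_lit 0, nat_lit 1, nat_lit 2, nat_lit 0, nat_lit 2, nat_lit 1, nat_lit 0, nat_lit 2, nat_lit 0, nat_lit 1, nat_lit 0, nat_lit 1, nat_lit 0, nat_lit 1]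
def Wt_81_84 (j : ℕ) : List ℕ := bif Nat.blt j 82 then [nat_lit 0, nat_lit 2, nat_lit 1, nat_lit 0, nat_lit 2, nat_lit 0, nat_lit 1, nat_lit 0, nat_lit 1, nat_lit 0, nat_lit 1, nat_lit 0, nat_lit 1, nat_lit 2, nat_lit 0, nat_lit 1, nat_lit 0, nat_lit 1, nat_lit 2] else (Wt_82_84 j)
def Wt_78_84 (j : ℕ) : List ℕ := bif Nat.blt j 81 then (Wt_78_81 j) else (Wt_81_84 j)
def Wt_85_87 (j : ℕ) : List ℕ := bif Nat.blt j 86 then [nat_lit 63, nat_lit 1, nat_lit 0, nat_lit 2, nat_lit 1, nat_lit 3, nat_lit 1, nat_lit 0, nat_lit 2, nat_lit 1, nat_lit 3, nat_lit 0] else [nat_lit 1, nat_lit 0, nat_lit 1, nat_lit 0, nat_lit 1, nat_lit 2, nat_lit 0, nat_lit 1, nat_lit 0, nat_lit 1, nat_lit 2, nat_lit 0, nat_lit 2, nat_lit 1, nat_lit 0, nat_lit 2, nat_lit 0, nat_lit 1, nat_lit 0]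
def Wt_84_87 (j : ℕ) : List ℕ := bif Nat.blt j 85 then [nat_lit 63, nat_lit 2, nat_lit 0, nat_lit 2, nat_lit 1, nat_lit 0, nat_lit 1, nat_lit 0, nat_lit 2, nat_lit 1, nat_lit 0, nat_lit 1, nat_lit 0, nat_lit 1, nat_lit 0, nat_lit 1, nat_lit 0, nat_lit 2, nat_lit 0, nat_lit 1] else (Wt_85_87 j)
def Wt_88_90 (j : ℕ) : List ℕ := bif Nat.blt j 89 then [nat_lit 63, nat_lit 1, nat_lit 0, nat_lit 2, nat_lit 1, nat_lit 0, nat_lit 1, nat_lit 0, nat_lit 1, nat_lit 0, nat_lit 1, nat_lit 0, nat_lit 2, nat_lit 0, nat_lit 1, nat_lit 2, nat_lit 0, nat_lit 2, nat_lit 1, nat_lit 0] else [nat_lit 0, nat_lit 2, nat_lit 1, nat_lit 0, nat_lit 1, nat_lit 0, nat_lit 2, nat_lit 1, nat_lit 0, nat_lit 1, nat_lit 0, nat_lit 1, nat_lit 0, nat_lit 1, nat_lit 0, nat_lit 2, nat_lit 0, nat_lit 1, nat_lit 2]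
def Wt_87_90 (j : ℕ) : List ℕ := bif Nat.blt j 88 then [nat_lit 63, nat_lit 2, nat_lit 1, nat_lit 3, nat_lit 1, nat_lit 0, nat_lit 2, nat_lit 1, nat_lit 3, nat_lit 0, nat_lit 1, nat_lit 0] else (Wt_88_90 j)
def Wt_84_90 (j : ℕ) : List ℕ := bif Nat.blt j 87 then (Wt_84_87 j) else (Wt_87_90 j)
def Wt_78_90 (j : ℕ) : List ℕ := bif Nat.blt j 84 then (Wt_78_84 j) else (Wt_84_90 j)
def Wt_67_90 (j : ℕ) : List ℕ := bif Nat.blt j 78 then (Wt_67_78 j) else (Wt_78_90 j)
def Wt_45_90 (j : ℕ) : List ℕ := bif Nat.blt j 67 then (Wt_45_67 j) else (Wt_67_90 j)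
def Wt_0_90 (j : ℕ) : List ℕ := bif Nat.blt j 45 then (Wt_0_45 j) else (Wt_45_90 j)
def Wt_90_92 (j : ℕ) : List ℕ := bif Nat.blt j 91 then [nat_lit 0, nat_lit 1, nat_lit 2, nat_lit 4, nat_lit 3, nat_lit 2, nat_lit 0, nat_lit 3, nat_lit 0, nat_lit 3, nat_lit 1, nat_lit 4, nat_lit 1, nat_lit 3, nat_lit 4, nat_lit 1, nat_lit 2] else [nat_lit 1, nat_lit 0, nat_lit 1, nat_lit 0, nat_lit 2, nat_lit 0, nat_lit 1, nat_lit 2, nat_lit 0, nat_lit 2, nat_lit 1, nat_lit 0, nat_lit 1, nat_lit 0, nat_lit 2, nat_lit 1, nat_lit 0, nat_lit 1, nat_lit 0]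
def Wt_93_95 (j : ℕ) : List ℕ := bif Nat.blt j 94 then [nat_lit 63, nat_lit 3, nat_lit 0, nat_lit 1, nat_lit 0, nat_lit 2, nat_lit 1, nat_lit 3, nat_lit 1, nat_lit 0, nat_lit 2, nat_lit 1] else [nat_lit 63, nat_lit 1, nat_lit 2, nat_lit 0, nat_lit 2, nat_lit 1, nat_lit 0, nat_lit 1, nat_lit 0, nat_lit 2, nat_lit 1, nat_lit 0, nat_lit 1, nat_lit 0, nat_lit 1, nat_lit 0, nat_lit 1, nat_lit 0, nat_lit 2, nat_lit 0]
def Wt_92_95 (j : ℕ) : List ℕ := bif Nat.blt j 93 then [nat_lit 1, nat_lit 0, nat_lit 2, nat_lit 0, nat_lit 1, nat_lit 0, nat_lit 1, nat_lit 0, nat_lit 1, nat_lit 0, nat_lit 1, nat_lit 2, nat_lit 0, nat_lit 1, nat_lit 0, nat_lit 1, nat_lit 2, nat_lit 0, nat_lit 2] else (Wt_93_95 j)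
def Wt_90_95 (j : ℕ) : List ℕ := bif Nat.blt j 92 then (Wt_90_92 j) else (Wt_92_95 j)
def Wt_96_98 (j : ℕ) : List ℕ := bif Nat.blt j 97 then [nat_lit 63, nat_lit 4, nat_lit 0, nat_lit 3, nat_lit 1, nat_lit 3, nat_lit 0, nat_lit 4, nat_lit 0, nat_lit 3, nat_lit 1, nat_lit 3, nat_lit 0] else [nat_lit 63, nat_lit 1, nat_lit 0, nat_lit 2, nat_lit 1, nat_lit 3, nat_lit 0, nat_lit 1, nat_lit 0, nat_lit 2, nat_lit 1, nat_lit 3]
def Wt_95_98 (j : ℕ) : List ℕ := bif Nat.blt j 96 then [nat_lit 63, nat_lit 1, nat_lit 0, nat_lit 1, nat_lit 0, nat_lit 1, nat_lit 0, nat_lit 1, nat_lit 0, nat_lit 2, nat_lit 0, nat_lit 1, nat_lit 2, nat_lit 0, nat_lit 2, nat_lit 1, nat_lit 0, nat_lit 1, nat_lit 0, nat_lit 2] else (Wt_96_98 j)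
def Wt_99_101 (j : ℕ) : List ℕ := bif Nat.blt j 100 then [nat_lit 2, nat_lit 1, nat_lit 3, nat_lit 4, nat_lit 0, nat_lit 3, nat_lit 0, nat_lit 1, nat_lit 0, nat_lit 4, nat_lit 1, nat_lit 0, nat_lit 4, nat_lit 3, nat_lit 1, nat_lit 4] else [nat_lit 4, nat_lit 0, nat_lit 1, nat_lit 4, nat_lit 0, nat_lit 1, nat_lit 0, nat_lit 3, nat_lit 0, nat_lit 4, nat_lit 3, nat_lit 1, nat_lit 2, nat_lit 4, nat_lit 1, nat_lit 3]
def Wt_98_101 (j : ℕ) : List ℕ := bif Nat.blt j 99 then [nat_lit 1, nat_lit 0, nat_lit 4, nat_lit 3, nat_lit 1, nat_lit 4, nat_lit 2, nat_lit 1, nat_lit 3, nat_lit 4, nat_lit 0, nat_lit 3, nat_lit 0, nat_lit 1, nat_lit 0, nat_lit 4] else (Wt_99_101 j)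
def Wt_95_101 (j : ℕ) : List ℕ := bif Nat.blt j 98 then (Wt_95_98 j) else (Wt_98_101 j)
def Wt_90_101 (j : ℕ) : List ℕ := bif Nat.blt j 95 then (Wt_90_95 j) else (Wt_95_101 j)
def Wt_101_103 (j : ℕ) : List ℕ := bif Nat.blt j 102 then [nat_lit 4, nat_lit 0, nat_lit 3, nat_lit 0, nat_lit 1, nat_lit 0, nat_lit 4, nat_lit 1, nat_lit 0, nat_lit 4, nat_lit 3, nat_lit 1, nat_lit 4, nat_lit 2, nat_lit 1, nat_lit 3] else [nat_lit 63, nat_lit 0, nat_lit 1, nat_lit 0, nat_lit 1, nat_lit 0, nat_lit 1, nat_lit 0, nat_lit 1, nat_lit 2, nat_lit 0, nat_lit 1, nat_lit 0, nat_lit 1, nat_lit 2, nat_lit 0, nat_lit 2, nat_lit 1, nat_lit 0, nat_lit 2]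
def Wt_104_106 (j : ℕ) : List ℕ := bif Nat.blt j 105 then [nat_lit 1, nat_lit 3, nat_lit 0, nat_lit 1, nat_lit 0, nat_lit 2, nat_lit 1, nat_lit 3, nat_lit 1, nat_lit 0, nat_lit 2] else [nat_lit 3, nat_lit 1, nat_lit 4, nat_lit 1, nat_lit 3, nat_lit 4, nat_lit 1, nat_lit 2, nat_lit 0, nat_lit 1, nat_lit 2, nat_lit 4, nat_lit 3, nat_lit 2, nat_lit 0, nat_lit 3, nat_lit 0]
def Wt_103_106 (j : ℕ) : List ℕ := bif Nat.blt j 104 then [nat_lit 0, nat_lit 3, nat_lit 1, nat_lit 3, nat_lit 0, nat_lit 4, nat_lit 0, nat_lit 2, nat_lit 1, nat_lit 0, nat_lit 1, nat_lit 2, nat_lit 0, nat_lit 4] else (Wt_104_106 j)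
def Wt_101_106 (j : ℕ) : List ℕ := bif Nat.blt j 103 then (Wt_101_103 j) else (Wt_103_106 j)
def Wt_107_109 (j : ℕ) : List ℕ := bif Nat.blt j 108 then [nat_lit 63, nat_lit 1, nat_lit 3, nat_lit 0, nat_lit 4, nat_lit 0, nat_lit 3, nat_lit 1, nat_lit 3, nat_lit 0, nat_lit 4, nat_lit 0, nat_lit 3] else [nat_lit 63, nat_lit 0, nat_lit 1, nat_lit 0, nat_lit 2, nat_lit 1, nat_lit 3, nat_lit 1, nat_lit 0, nat_lit 2, nat_lit 1, nat_lit 3]
def Wt_106_109 (j : ℕ) : List ℕ := bif Nat.blt j 107 then [nat_lit 63, nat_lit 3, nat_lit 1, nat_lit 3, nat_lit 1, nat_lit 3, nat_lit 1, nat_lit 3, nat_lit 1] else (Wt_107_109 j)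
def Wt_110_112 (j : ℕ) : List ℕ := bif Nat.blt j 111 then [nat_lit 1, nat_lit 2, nat_lit 0, nat_lit 2, nat_lit 1, nat_lit 0, nat_lit 2, nat_lit 0, nat_lit 1, nat_lit 0, nat_lit 1, nat_lit 0, nat_lit 1, nat_lit 0, nat_lit 1, nat_lit 2, nat_lit 0, nat_lit 1, nat_lit 0] else [nat_lit 0, nat_lit 1, nat_lit 0, nat_lit 4, nat_lit 1, nat_lit 0, nat_lit 4, nat_lit 3, nat_lit 1, nat_lit 4, nat_lit 2, nat_lit 1, nat_lit 3, nat_lit 4, nat_lit 0, nat_lit 3]
def Wt_109_112 (j : ℕ) : List ℕ := bif Nat.blt j 110 then [nat_lit 4, nat_lit 1, nat_lit 0, nat_lit 4, nat_lit 3, nat_lit 1, nat_lit 4, nat_lit 2, nat_lit 1, nat_lit 3, nat_lit 4, nat_lit 0, nat_lit 3, nat_lit 0, nat_lit 1, nat_lit 0] else (Wt_110_112 j)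
def Wt_106_112 (j : ℕ) : List ℕ := bif Nat.blt j 109 then (Wt_106_109 j) else (Wt_109_112 j)
def Wt_101_112 (j : ℕ) : List ℕ := bif Nat.blt j 106 then (Wt_101_106 j) else (Wt_106_112 j)
def Wt_90_112 (j : ℕ) : List ℕ := bif Nat.blt j 101 then (Wt_90_101 j) else (Wt_101_112 j)
def Wt_112_114 (j : ℕ) : List ℕ := bif Nat.blt j 113 then [nat_lit 3, nat_lit 1, nat_lit 4, nat_lit 2, nat_lit 1, nat_lit 3, nat_lit 4, nat_lit 0, nat_lit 3, nat_lit 0, nat_lit 1, nat_lit 0, nat_lit 4, nat_lit 1, nat_lit 0, nat_lit 4] else [nat_lit 3, nat_lit 0, nat_lit 3, nat_lit 1, nat_lit 4, nat_lit 1, nat_lit 3, nat_lit 4, nat_lit 1, nat_lit 2, nat_lit 0, nat_lit 1, nat_lit 2, nat_lit 4, nat_lit 3, nat_lit 2, nat_lit 0]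
def Wt_115_117 (j : ℕ) : List ℕ := bif Nat.blt j 116 then [nat_lit 0, nat_lit 1, nat_lit 0, nat_lit 3, nat_lit 1, nat_lit 2, nat_lit 0, nat_lit 1, nat_lit 3, nat_lit 1, nat_lit 2] else [nat_lit 1, nat_lit 0, nat_lit 1, nat_lit 0, nat_lit 1, nat_lit 0, nat_lit 1, nat_lit 0, nat_lit 1, nat_lit 0, nat_lit 1, nat_lit 0, nat_lit 1, nat_lit 0, nat_lit 1, nat_lit 0, nat_lit 1, nat_lit 0, nat_lit 1, nat_lit 0, nat_lit 1, nat_lit 0, nat_lit 1, nat_lit 0, nat_lit 1, nat_lit 0, nat_lit 1, nat_lit 0, nat_lit 1, nat_lit 0, nat_lit 1, nat_lit 0, nat_lit 1, nat_lit 0]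
def Wt_114_117 (j : ℕ) : List ℕ := bif Nat.blt j 115 then [nat_lit 1, nat_lit 0, nat_lit 1, nat_lit 0, nat_lit 2, nat_lit 1, nat_lit 0, nat_lit 1, nat_lit 0, nat_lit 1, nat_lit 0, nat_lit 1, nat_lit 0, nat_lit 2, nat_lit 0, nat_lit 1, nat_lit 2, nat_lit 0, nat_lit 2] else (Wt_115_117 j)
def Wt_112_117 (j : ℕ) : List ℕ := bif Nat.blt j 114 then (Wt_112_114 j) else (Wt_114_117 j)
def Wt_118_120 (j : ℕ) : List ℕ := bif Nat.blt j 119 then [nat_lit 63, nat_lit 0, nat_lit 1, nat_lit 0, nat_lit 2, nat_lit 0, nat_lit 1, nat_lit 2, nat_lit 0, nat_lit 2, nat_lit 1, nat_lit 0, nat_lit 1, nat_lit 0, nat_lit 2, nat_lit 1, nat_lit 0, nat_lit 1, nat_lit 0, nat_lit 1] else [nat_lit 63, nat_lit 1, nat_lit 0, nat_lit 1, nat_lit 2, nat_lit 0, nat_lit 1, nat_lit 0, nat_lit 1, nat_lit 2, nat_lit 0, nat_lit 2, nat_lit 1, nat_lit 0, nat_lit 2, nat_lit 0, nat_lit 1, nat_lit 0, nat_lit 1, nat_lit 0]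
def Wt_117_120 (j : ℕ) : List ℕ := bif Nat.blt j 118 then [nat_lit 63, nat_lit 1, nat_lit 3, nat_lit 1, nat_lit 3, nat_lit 1, nat_lit 3, nat_lit 1, nat_lit 3] else (Wt_118_120 j)
def Wt_121_123 (j : ℕ) : List ℕ := bif Nat.blt j 122 then [nat_lit 63, nat_lit 0, nat_lit 1, nat_lit 0, nat_lit 1, nat_lit 0, nat_lit 1, nat_lit 0, nat_lit 1, nat_lit 0, nat_lit 1, nat_lit 0, nat_lit 1, nat_lit 0, nat_lit 1, nat_lit 0, nat_lit 1, nat_lit 0, nat_lit 1, nat_lit 0, nat_lit 1, nat_lit 0, nat_lit 1, nat_lit 0, nat_lit 1, nat_lit 0, nat_lit 1, nat_lit 0, nat_lit 1, nat_lit 0, nat_lit 1, nat_lit 0, nat_lit 1, nat_lit 0, nat_lit 1] else [nat_lit 63, nat_lit 0, nat_lit 2, nat_lit 1, nat_lit 0, nat_lit 1, nat_lit 0, nat_lit 2, nat_lit 1, nat_lit 0, nat_lit 1, nat_lit 0, nat_lit 1, nat_lit 0, nat_lit 1, nat_lit 0, nat_lit 2, nat_lit 0, nat_lit 1, nat_lit 2]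
def Wt_120_123 (j : ℕ) : List ℕ := bif Nat.blt j 121 then [nat_lit 63, nat_lit 0, nat_lit 1, nat_lit 3, nat_lit 1, nat_lit 2, nat_lit 0, nat_lit 1, nat_lit 0, nat_lit 3, nat_lit 1, nat_lit 2] else (Wt_121_123 j)
def Wt_117_123 (j : ℕ) : List ℕ := bif Nat.blt j 120 then (Wt_117_120 j) else (Wt_120_123 j)
def Wt_112_123 (j : ℕ) : List ℕ := bif Nat.blt j 117 then (Wt_112_117 j) else (Wt_117_123 j)
def Wt_124_126 (j : ℕ) : List ℕ := bif Nat.blt j 125 then [nat_lit 63, nat_lit 2, nat_lit 1, nat_lit 0, nat_lit 2, nat_lit 0, nat_lit 1, nat_lit 0, nat_lit 1, nat_lit 0, nat_lit 1, nat_lit 0, nat_lit 1, nat_lit 2, nat_lit 0, nat_lit 1, nat_lit 0, nat_lit 1, nat_lit 2, nat_lit 0] else [nat_lit 63, nat_lit 1, nat_lit 0, nat_lit 1, nat_lit 2, nat_lit 0, nat_lit 2, nat_lit 1, nat_lit 0, nat_lit 2, nat_lit 0, nat_lit 1, nat_lit 0, nat_lit 1, nat_lit 0, nat_lit 1, nat_lit 0, nat_lit 1, nat_lit 2, nat_lit 0]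
def Wt_123_126 (j : ℕ) : List ℕ := bif Nat.blt j 124 then [nat_lit 63, nat_lit 2, nat_lit 1, nat_lit 0, nat_lit 1, nat_lit 0, nat_lit 2, nat_lit 1, nat_lit 0, nat_lit 1, nat_lit 0, nat_lit 1, nat_lit 0, nat_lit 1, nat_lit 0, nat_lit 2, nat_lit 0, nat_lit 1, nat_lit 2, nat_lit 0] else (Wt_124_126 j)
def Wt_127_129 (j : ℕ) : List ℕ := bif Nat.blt j 128 then [nat_lit 0, nat_lit 1, nat_lit 0, nat_lit 2, nat_lit 0, nat_lit 1, nat_lit 2, nat_lit 0, nat_lit 2, nat_lit 1, nat_lit 0, nat_lit 1, nat_lit 0, nat_lit 2, nat_lit 1, nat_lit 0, nat_lit 1, nat_lit 0, nat_lit 1] else [nat_lit 1, nat_lit 0, nat_lit 1, nat_lit 2, nat_lit 0, nat_lit 1, nat_lit 0, nat_lit 1, nat_lit 2, nat_lit 0, nat_lit 2, nat_lit 1, nat_lit 0, nat_lit 2, nat_lit 0, nat_lit 1, nat_lit 0, nat_lit 1, nat_lit 0]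
def Wt_126_129 (j : ℕ) : List ℕ := bif Nat.blt j 127 then [nat_lit 63, nat_lit 0, nat_lit 1, nat_lit 2, nat_lit 0, nat_lit 1, nat_lit 0, nat_lit 1, nat_lit 2, nat_lit 0, nat_lit 2, nat_lit 1, nat_lit 0, nat_lit 2, nat_lit 0, nat_lit 1, nat_lit 0, nat_lit 1, nat_lit 0, nat_lit 1] else (Wt_127_129 j)
def Wt_123_129 (j : ℕ) : List ℕ := bif Nat.blt j 126 then (Wt_123_126 j) else (Wt_126_129 j)
def Wt_130_132 (j : ℕ) : List ℕ := bif Nat.blt j 131 then [nat_lit 63, nat_lit 0, nat_lit 2, nat_lit 1, nat_lit 3, nat_lit 0, nat_lit 1, nat_lit 0, nat_lit 2, nat_lit 1, nat_lit 3, nat_lit 1] else [nat_lit 63, nat_lit 2, nat_lit 0, nat_lit 1, nat_lit 0, nat_lit 3, nat_lit 1, nat_lit 2, nat_lit 0, nat_lit 1, nat_lit 3, nat_lit 1]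
def Wt_129_132 (j : ℕ) : List ℕ := bif Nat.blt j 130 then [nat_lit 63, nat_lit 0, nat_lit 1, nat_lit 0, nat_lit 1, nat_lit 2, nat_lit 0, nat_lit 2, nat_lit 1, nat_lit 0, nat_lit 2, nat_lit 0, nat_lit 1, nat_lit 0, nat_lit 1, nat_lit 0, nat_lit 1, nat_lit 0, nat_lit 1, nat_lit 2] else (Wt_130_132 j)
def Wt_133_135 (j : ℕ) : List ℕ := bif Nat.blt j 134 then [nat_lit 0, nat_lit 1, nat_lit 2, nat_lit 0, nat_lit 2, nat_lit 1, nat_lit 0, nat_lit 1, nat_lit 0, nat_lit 2, nat_lit 1, nat_lit 0, nat_lit 1, nat_lit 0, nat_lit 1, nat_lit 0, nat_lit 1, nat_lit 0, nat_lit 2] else [nat_lit 0, nat_lit 1, nat_lit 0, nat_lit 1, nat_lit 0, nat_lit 1, nat_lit 2, nat_lit 0, nat_lit 1, nat_lit 0, nat_lit 1, nat_lit 2, nat_lit 0, nat_lit 2, nat_lit 1, nat_lit 0, nat_lit 2, nat_lit 0, nat_lit 1]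
def Wt_132_135 (j : ℕ) : List ℕ := bif Nat.blt j 133 then [nat_lit 63, nat_lit 1, nat_lit 3, nat_lit 0, nat_lit 1, nat_lit 0, nat_lit 2, nat_lit 1, nat_lit 3, nat_lit 1, nat_lit 0, nat_lit 2] else (Wt_133_135 j)
def Wt_129_135 (j : ℕ) : List ℕ := bif Nat.blt j 132 then (Wt_129_132 j) else (Wt_132_135 j)
def Wt_123_135 (j : ℕ) : List ℕ := bif Nat.blt j 129 then (Wt_123_129 j) else (Wt_129_135 j)
def Wt_112_135 (j : ℕ) : List ℕ := bif Nat.blt j 123 then (Wt_112_123 j) else (Wt_123_135 j)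
def Wt_90_135 (j : ℕ) : List ℕ := bif Nat.blt j 112 then (Wt_90_112 j) else (Wt_112_135 j)
def Wt_135_137 (j : ℕ) : List ℕ := bif Nat.blt j 136 then [nat_lit 63, nat_lit 0, nat_lit 2, nat_lit 1, nat_lit 3, nat_lit 1, nat_lit 0, nat_lit 2, nat_lit 1, nat_lit 3, nat_lit 0, nat_lit 1] else [nat_lit 0, nat_lit 2, nat_lit 0, nat_lit 1, nat_lit 0, nat_lit 1, nat_lit 0, nat_lit 1, nat_lit 0, nat_lit 1, nat_lit 2, nat_lit 0, nat_lit 1, nat_lit 0, nat_lit 1, nat_lit 2, nat_lit 0, nat_lit 2, nat_lit 1]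
def Wt_138_140 (j : ℕ) : List ℕ := bif Nat.blt j 139 then [nat_lit 63, nat_lit 0, nat_lit 1, nat_lit 0, nat_lit 1, nat_lit 0, nat_lit 1, nat_lit 0, nat_lit 2, nat_lit 0, nat_lit 1, nat_lit 2, nat_lit 0, nat_lit 2, nat_lit 1, nat_lit 0, nat_lit 1, nat_lit 0, nat_lit 2, nat_lit 1] else [nat_lit 1, nat_lit 0, nat_lit 1, nat_lit 0, nat_lit 1, nat_lit 0, nat_lit 2, nat_lit 0, nat_lit 1, nat_lit 2, nat_lit 0, nat_lit 2, nat_lit 1, nat_lit 0, nat_lit 1, nat_lit 0, nat_lit 2, nat_lit 1, nat_lit 0]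
def Wt_137_140 (j : ℕ) : List ℕ := bif Nat.blt j 138 then [nat_lit 63, nat_lit 4, nat_lit 2, nat_lit 3, nat_lit 2, nat_lit 4, nat_lit 2, nat_lit 3, nat_lit 2, nat_lit 4, nat_lit 2, nat_lit 3, nat_lit 2] else (Wt_138_140 j)
def Wt_135_140 (j : ℕ) : List ℕ := bif Nat.blt j 137 then (Wt_135_137 j) else (Wt_137_140 j)
def Wt_141_143 (j : ℕ) : List ℕ := bif Nat.blt j 142 then [nat_lit 63, nat_lit 3, nat_lit 1, nat_lit 0, nat_lit 2, nat_lit 1, nat_lit 3, nat_lit 0, nat_lit 1, nat_lit 0, nat_lit 2, nat_lit 1] else [nat_lit 63, nat_lit 0, nat_lit 3, nat_lit 1, nat_lit 2, nat_lit 0, nat_lit 1, nat_lit 3, nat_lit 1, nat_lit 2, nat_lit 0, nat_lit 1]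
def Wt_140_143 (j : ℕ) : List ℕ := bif Nat.blt j 141 then [nat_lit 1, nat_lit 63, nat_lit 1, nat_lit 63] else (Wt_141_143 j)
def Wt_144_146 (j : ℕ) : List ℕ := bif Nat.blt j 145 then [nat_lit 63, nat_lit 1, nat_lit 0, nat_lit 1, nat_lit 0, nat_lit 2, nat_lit 1, nat_lit 0, nat_lit 1, nat_lit 0, nat_lit 1, nat_lit 0, nat_lit 1, nat_lit 0, nat_lit 2, nat_lit 0, nat_lit 1, nat_lit 2, nat_lit 0, nat_lit 2] else [nat_lit 63, nat_lit 0, nat_lit 1, nat_lit 0, nat_lit 1, nat_lit 0, nat_lit 1, nat_lit 2, nat_lit 0, nat_lit 1, nat_lit 0, nat_lit 1, nat_lit 2, nat_lit 0, nat_lit 2, nat_lit 1, nat_lit 0, nat_lit 2, nat_lit 0, nat_lit 1]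
def Wt_143_146 (j : ℕ) : List ℕ := bif Nat.blt j 144 then [nat_lit 3, nat_lit 0, nat_lit 4, nat_lit 2, nat_lit 3, nat_lit 0, nat_lit 3, nat_lit 0, nat_lit 4, nat_lit 2, nat_lit 3, nat_lit 0] else (Wt_144_146 j)
def Wt_140_146 (j : ℕ) : List ℕ := bif Nat.blt j 143 then (Wt_140_143 j) else (Wt_143_146 j)
def Wt_135_146 (j : ℕ) : List ℕ := bif Nat.blt j 140 then (Wt_135_140 j) else (Wt_140_146 j)
def Wt_146_148 (j : ℕ) : List ℕ := bif Nat.blt j 147 then [nat_lit 63, nat_lit 1, nat_lit 0, nat_lit 3, nat_lit 1, nat_lit 2, nat_lit 0, nat_lit 1, nat_lit 3, nat_lit 1, nat_lit 2, nat_lit 0] else [nat_lit 63, nat_lit 3, nat_lit 2, nat_lit 4, nat_lit 0, nat_lit 3, nat_lit 0, nat_lit 3, nat_lit 2, nat_lit 4, nat_lit 0, nat_lit 3, nat_lit 0]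
def Wt_149_151 (j : ℕ) : List ℕ := bif Nat.blt j 150 then [nat_lit 63, nat_lit 1, nat_lit 0, nat_lit 1, nat_lit 0, nat_lit 1, nat_lit 0, nat_lit 1, nat_lit 2, nat_lit 0, nat_lit 1, nat_lit 0, nat_lit 1, nat_lit 2, nat_lit 0, nat_lit 2, nat_lit 1, nat_lit 0, nat_lit 2, nat_lit 0] else [nat_lit 63, nat_lit 1, nat_lit 3, nat_lit 1, nat_lit 0, nat_lit 2, nat_lit 1, nat_lit 3, nat_lit 0, nat_lit 1, nat_lit 0, nat_lit 2]
def Wt_148_151 (j : ℕ) : List ℕ := bif Nat.blt j 149 then [nat_lit 63, nat_lit 2, nat_lit 0, nat_lit 1, nat_lit 0, nat_lit 1, nat_lit 0, nat_lit 1, nat_lit 0, nat_lit 1, nat_lit 2, nat_lit 0, nat_lit 1, nat_lit 0, nat_lit 1, nat_lit 2, nat_lit 0, nat_lit 2, nat_lit 1, nat_lit 0] else (Wt_149_151 j)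
def Wt_146_151 (j : ℕ) : List ℕ := bif Nat.blt j 148 then (Wt_146_148 j) else (Wt_148_151 j)
def Wt_152_154 (j : ℕ) : List ℕ := bif Nat.blt j 153 then [nat_lit 63, nat_lit 1, nat_lit 0, nat_lit 2, nat_lit 0, nat_lit 1, nat_lit 0, nat_lit 1, nat_lit 0, nat_lit 1, nat_lit 0, nat_lit 1, nat_lit 2, nat_lit 0, nat_lit 1, nat_lit 0, nat_lit 1, nat_lit 2, nat_lit 0, nat_lit 2] else [nat_lit 63, nat_lit 0, nat_lit 2, nat_lit 0, nat_lit 1, nat_lit 0, nat_lit 1, nat_lit 0, nat_lit 1, nat_lit 0, nat_lit 1, nat_lit 2, nat_lit 0, nat_lit 1, nat_lit 0, nat_lit 1, nat_lit 2, nat_lit 0, nat_lit 2, nat_lit 1]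
def Wt_151_154 (j : ℕ) : List ℕ := bif Nat.blt j 152 then [nat_lit 63, nat_lit 0, nat_lit 2, nat_lit 1, nat_lit 0, nat_lit 1, nat_lit 0, nat_lit 1, nat_lit 0, nat_lit 1, nat_lit 0, nat_lit 2, nat_lit 0, nat_lit 1, nat_lit 2, nat_lit 0, nat_lit 2, nat_lit 1, nat_lit 0, nat_lit 1] else (Wt_152_154 j)
def Wt_155_157 (j : ℕ) : List ℕ := bif Nat.blt j 156 then [nat_lit 2, nat_lit 0, nat_lit 1, nat_lit 0, nat_lit 1, nat_lit 0, nat_lit 1, nat_lit 0, nat_lit 1, nat_lit 2, nat_lit 0, nat_lit 1, nat_lit 0, nat_lit 1, nat_lit 2, nat_lit 0, nat_lit 2, nat_lit 1, nat_lit 0] else [nat_lit 4, nat_lit 4, nat_lit 63]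
def Wt_154_157 (j : ℕ) : List ℕ := bif Nat.blt j 155 then [nat_lit 0, nat_lit 1, nat_lit 0, nat_lit 1, nat_lit 0, nat_lit 1, nat_lit 0, nat_lit 2, nat_lit 0, nat_lit 1, nat_lit 2, nat_lit 0, nat_lit 2, nat_lit 1, nat_lit 0, nat_lit 1, nat_lit 0, nat_lit 2, nat_lit 1] else (Wt_155_157 j)
def Wt_151_157 (j : ℕ) : List ℕ := bif Nat.blt j 154 then (Wt_151_154 j) else (Wt_154_157 j)
def Wt_146_157 (j : ℕ) : List ℕ := bif Nat.blt j 151 then (Wt_146_151 j) else (Wt_151_157 j)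
def Wt_135_157 (j : ℕ) : List ℕ := bif Nat.blt j 146 then (Wt_135_146 j) else (Wt_146_157 j)
def Wt_157_159 (j : ℕ) : List ℕ := bif Nat.blt j 158 then [nat_lit 63, nat_lit 0, nat_lit 1, nat_lit 2, nat_lit 0, nat_lit 2, nat_lit 1, nat_lit 0, nat_lit 2, nat_lit 0, nat_lit 1, nat_lit 0, nat_lit 1, nat_lit 0, nat_lit 1, nat_lit 0, nat_lit 1, nat_lit 2, nat_lit 0, nat_lit 1] else [nat_lit 63, nat_lit 1, nat_lit 0, nat_lit 1, nat_lit 0, nat_lit 2, nat_lit 0, nat_lit 1, nat_lit 2, nat_lit 0, nat_lit 2, nat_lit 1, nat_lit 0, nat_lit 1, nat_lit 0, nat_lit 2, nat_lit 1, nat_lit 0, nat_lit 1, nat_lit 0]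
def Wt_160_162 (j : ℕ) : List ℕ := bif Nat.blt j 161 then [nat_lit 1, nat_lit 0, nat_lit 2, nat_lit 1, nat_lit 0, nat_lit 1, nat_lit 0, nat_lit 1, nat_lit 0, nat_lit 1, nat_lit 0, nat_lit 2, nat_lit 0, nat_lit 1, nat_lit 2, nat_lit 0, nat_lit 2, nat_lit 1, nat_lit 0] else [nat_lit 63, nat_lit 2, nat_lit 1, nat_lit 3, nat_lit 0, nat_lit 1, nat_lit 0, nat_lit 2, nat_lit 1, nat_lit 3, nat_lit 1, nat_lit 0]
def Wt_159_162 (j : ℕ) : List ℕ := bif Nat.blt j 160 then [nat_lit 0, nat_lit 1, nat_lit 0, nat_lit 1, nat_lit 0, nat_lit 1, nat_lit 0, nat_lit 1, nat_lit 2, nat_lit 0, nat_lit 1, nat_lit 0, nat_lit 1, nat_lit 2, nat_lit 0, nat_lit 2, nat_lit 1, nat_lit 0, nat_lit 2] else (Wt_160_162 j)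
def Wt_157_162 (j : ℕ) : List ℕ := bif Nat.blt j 159 then (Wt_157_159 j) else (Wt_159_162 j)
def Wt_163_165 (j : ℕ) : List ℕ := bif Nat.blt j 164 then [nat_lit 63, nat_lit 1, nat_lit 0, nat_lit 1, nat_lit 0, nat_lit 1, nat_lit 2, nat_lit 0, nat_lit 1, nat_lit 0, nat_lit 1, nat_lit 2, nat_lit 0, nat_lit 2, nat_lit 1, nat_lit 0, nat_lit 2, nat_lit 0, nat_lit 1, nat_lit 0] else [nat_lit 63, nat_lit 1, nat_lit 0, nat_lit 2, nat_lit 0, nat_lit 1, nat_lit 2, nat_lit 0, nat_lit 2, nat_lit 1, nat_lit 0, nat_lit 1, nat_lit 0, nat_lit 2, nat_lit 1, nat_lit 0, nat_lit 1, nat_lit 0, nat_lit 1, nat_lit 0]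
def Wt_162_165 (j : ℕ) : List ℕ := bif Nat.blt j 163 then [nat_lit 63, nat_lit 1, nat_lit 63, nat_lit 1, nat_lit 63] else (Wt_163_165 j)
def Wt_166_168 (j : ℕ) : List ℕ := bif Nat.blt j 167 then [nat_lit 63, nat_lit 0, nat_lit 2, nat_lit 0, nat_lit 1, nat_lit 2, nat_lit 0, nat_lit 2, nat_lit 1, nat_lit 0, nat_lit 1, nat_lit 0, nat_lit 2, nat_lit 1, nat_lit 0, nat_lit 1, nat_lit 0, nat_lit 1, nat_lit 0, nat_lit 1] else [nat_lit 63, nat_lit 0, nat_lit 1, nat_lit 0, nat_lit 2, nat_lit 1, nat_lit 0, nat_lit 1, nat_lit 0, nat_lit 1, nat_lit 0, nat_lit 1, nat_lit 0, nat_lit 2, nat_lit 0, nat_lit 1, nat_lit 2, nat_lit 0, nat_lit 2, nat_lit 1]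
def Wt_165_168 (j : ℕ) : List ℕ := bif Nat.blt j 166 then [nat_lit 3, nat_lit 2, nat_lit 4, nat_lit 2, nat_lit 3, nat_lit 2, nat_lit 4, nat_lit 2, nat_lit 3, nat_lit 2, nat_lit 4, nat_lit 2] else (Wt_166_168 j)
def Wt_162_168 (j : ℕ) : List ℕ := bif Nat.blt j 165 then (Wt_162_165 j) else (Wt_165_168 j)
def Wt_157_168 (j : ℕ) : List ℕ := bif Nat.blt j 162 then (Wt_157_162 j) else (Wt_162_168 j)
def Wt_169_171 (j : ℕ) : List ℕ := bif Nat.blt j 170 then [nat_lit 63, nat_lit 0, nat_lit 1, nat_lit 0, nat_lit 3, nat_lit 1, nat_lit 2, nat_lit 0, nat_lit 1, nat_lit 3, nat_lit 1, nat_lit 2] else [nat_lit 2, nat_lit 0, nat_lit 1, nat_lit 2, nat_lit 0, nat_lit 2, nat_lit 1, nat_lit 0, nat_lit 1, nat_lit 0, nat_lit 2, nat_lit 1, nat_lit 0, nat_lit 1, nat_lit 0, nat_lit 1, nat_lit 0, nat_lit 1, nat_lit 0]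
def Wt_168_171 (j : ℕ) : List ℕ := bif Nat.blt j 169 then [nat_lit 63, nat_lit 1, nat_lit 2, nat_lit 0, nat_lit 1, nat_lit 0, nat_lit 3, nat_lit 1, nat_lit 2, nat_lit 0, nat_lit 1, nat_lit 3] else (Wt_169_171 j)
def Wt_172_174 (j : ℕ) : List ℕ := bif Nat.blt j 173 then [nat_lit 63, nat_lit 3, nat_lit 1, nat_lit 2, nat_lit 0, nat_lit 1, nat_lit 0, nat_lit 3, nat_lit 1, nat_lit 2, nat_lit 0, nat_lit 1] else [nat_lit 0, nat_lit 1, nat_lit 0, nat_lit 2, nat_lit 1, nat_lit 0, nat_lit 1, nat_lit 0, nat_lit 1, nat_lit 0, nat_lit 1, nat_lit 0, nat_lit 2, nat_lit 0, nat_lit 1, nat_lit 2, nat_lit 0, nat_lit 2, nat_lit 1]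
def Wt_171_174 (j : ℕ) : List ℕ := bif Nat.blt j 172 then [nat_lit 2, nat_lit 0, nat_lit 1, nat_lit 0, nat_lit 1, nat_lit 2, nat_lit 0, nat_lit 2, nat_lit 1, nat_lit 0, nat_lit 2, nat_lit 0, nat_lit 1, nat_lit 0, nat_lit 1, nat_lit 0, nat_lit 1, nat_lit 0, nat_lit 1] else (Wt_172_174 j)
def Wt_168_174 (j : ℕ) : List ℕ := bif Nat.blt j 171 then (Wt_168_171 j) else (Wt_171_174 j)
def Wt_175_177 (j : ℕ) : List ℕ := bif Nat.blt j 176 then [nat_lit 1, nat_lit 0, nat_lit 1, nat_lit 0, nat_lit 1, nat_lit 0, nat_lit 1, nat_lit 0, nat_lit 2, nat_lit 0, nat_lit 1, nat_lit 2, nat_lit 0, nat_lit 2, nat_lit 1, nat_lit 0, nat_lit 1, nat_lit 0, nat_lit 2] else [nat_lit 63, nat_lit 3, nat_lit 0, nat_lit 3, nat_lit 0, nat_lit 4, nat_lit 2, nat_lit 3, nat_lit 0, nat_lit 3, nat_lit 0, nat_lit 4, nat_lit 2]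
def Wt_174_177 (j : ℕ) : List ℕ := bif Nat.blt j 175 then [nat_lit 63, nat_lit 0, nat_lit 1, nat_lit 2, nat_lit 0, nat_lit 2, nat_lit 1, nat_lit 0, nat_lit 1, nat_lit 0, nat_lit 2, nat_lit 1, nat_lit 0, nat_lit 1, nat_lit 0, nat_lit 1, nat_lit 0, nat_lit 1, nat_lit 0, nat_lit 2] else (Wt_175_177 j)
def Wt_178_180 (j : ℕ) : List ℕ := bif Nat.blt j 179 then [nat_lit 63, nat_lit 3, nat_lit 0, nat_lit 4, nat_lit 0, nat_lit 2, nat_lit 1, nat_lit 0, nat_lit 1, nat_lit 2, nat_lit 0, nat_lit 4, nat_lit 0, nat_lit 3, nat_lit 1] else [nat_lit 63, nat_lit 3, nat_lit 1, nat_lit 3, nat_lit 0, nat_lit 4, nat_lit 0, nat_lit 3, nat_lit 1, nat_lit 3, nat_lit 0, nat_lit 4, nat_lit 0]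
def Wt_177_180 (j : ℕ) : List ℕ := bif Nat.blt j 178 then [nat_lit 63, nat_lit 2, nat_lit 1, nat_lit 0, nat_lit 1, nat_lit 0, nat_lit 1, nat_lit 0, nat_lit 1, nat_lit 0, nat_lit 2, nat_lit 0, nat_lit 1, nat_lit 2, nat_lit 0, nat_lit 2, nat_lit 1, nat_lit 0, nat_lit 1, nat_lit 0] else (Wt_178_180 j)
def Wt_174_180 (j : ℕ) : List ℕ := bif Nat.blt j 177 then (Wt_174_177 j) else (Wt_177_180 j)
def Wt_168_180 (j : ℕ) : List ℕ := bif Nat.blt j 174 then (Wt_168_174 j) else (Wt_174_180 j)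
def Wt_157_180 (j : ℕ) : List ℕ := bif Nat.blt j 168 then (Wt_157_168 j) else (Wt_168_180 j)
def Wt_135_180 (j : ℕ) : List ℕ := bif Nat.blt j 157 then (Wt_135_157 j) else (Wt_157_180 j)
def Wt_90_180 (j : ℕ) : List ℕ := bif Nat.blt j 135 then (Wt_90_135 j) else (Wt_135_180 j)
def Wt_0_180 (j : ℕ) : List ℕ := bif Nat.blt j 90 then (Wt_0_90 j) else (Wt_90_180 j)
def Wt_180_182 (j : ℕ) : List ℕ := bif Nat.blt j 181 then [nat_lit 63, nat_lit 0, nat_lit 1, nat_lit 0, nat_lit 1, nat_lit 2, nat_lit 0, nat_lit 1, nat_lit 0, nat_lit 1, nat_lit 2, nat_lit 0, nat_lit 2, nat_lit 1, nat_lit 0, nat_lit 2, nat_lit 0, nat_lit 1, nat_lit 0, nat_lit 1] else [nat_lit 63, nat_lit 0, nat_lit 2, nat_lit 1, nat_lit 0, nat_lit 2, nat_lit 0, nat_lit 1, nat_lit 0, nat_lit 1, nat_lit 0, nat_lit 1, nat_lit 0, nat_lit 1, nat_lit 2, nat_lit 0, nat_lit 1, nat_lit 0, nat_lit 1, nat_lit 2]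
def Wt_183_185 (j : ℕ) : List ℕ := bif Nat.blt j 184 then [nat_lit 63, nat_lit 1, nat_lit 3, nat_lit 1, nat_lit 2, nat_lit 0, nat_lit 1, nat_lit 0, nat_lit 3, nat_lit 1, nat_lit 2, nat_lit 0] else [nat_lit 0, nat_lit 1, nat_lit 2, nat_lit 0, nat_lit 2, nat_lit 1, nat_lit 0, nat_lit 2, nat_lit 0, nat_lit 1, nat_lit 0, nat_lit 1, nat_lit 0, nat_lit 1, nat_lit 0, nat_lit 1, nat_lit 2, nat_lit 0, nat_lit 1]
def Wt_182_185 (j : ℕ) : List ℕ := bif Nat.blt j 183 then [nat_lit 63, nat_lit 0, nat_lit 63, nat_lit 0, nat_lit 63] else (Wt_183_185 j)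
def Wt_180_185 (j : ℕ) : List ℕ := bif Nat.blt j 182 then (Wt_180_182 j) else (Wt_182_185 j)
def Wt_186_188 (j : ℕ) : List ℕ := bif Nat.blt j 187 then [nat_lit 0, nat_lit 1, nat_lit 0, nat_lit 1, nat_lit 0, nat_lit 1, nat_lit 0, nat_lit 1, nat_lit 0, nat_lit 1, nat_lit 0, nat_lit 1, nat_lit 0, nat_lit 1, nat_lit 0, nat_lit 1, nat_lit 0, nat_lit 1, nat_lit 0, nat_lit 1, nat_lit 0, nat_lit 1, nat_lit 0, nat_lit 1, nat_lit 0, nat_lit 1, nat_lit 0, nat_lit 1, nat_lit 0, nat_lit 1, nat_lit 0, nat_lit 1, nat_lit 0, nat_lit 1] else [nat_lit 63, nat_lit 2, nat_lit 63, nat_lit 2, nat_lit 63]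
def Wt_185_188 (j : ℕ) : List ℕ := bif Nat.blt j 186 then [nat_lit 63, nat_lit 1, nat_lit 0, nat_lit 1, nat_lit 0, nat_lit 1, nat_lit 0, nat_lit 2, nat_lit 0, nat_lit 1, nat_lit 2, nat_lit 0, nat_lit 2, nat_lit 1, nat_lit 0, nat_lit 1, nat_lit 0, nat_lit 2, nat_lit 1, nat_lit 0] else (Wt_186_188 j)
def Wt_189_191 (j : ℕ) : List ℕ := bif Nat.blt j 190 then [nat_lit 63, nat_lit 1, nat_lit 2, nat_lit 0, nat_lit 2, nat_lit 1, nat_lit 0, nat_lit 2, nat_lit 0, nat_lit 1, nat_lit 0, nat_lit 1, nat_lit 0, nat_lit 1, nat_lit 0, nat_lit 1, nat_lit 2, nat_lit 0, nat_lit 1, nat_lit 0] else [nat_lit 2, nat_lit 1, nat_lit 0, nat_lit 1, nat_lit 0, nat_lit 1, nat_lit 0, nat_lit 1, nat_lit 0, nat_lit 2, nat_lit 0, nat_lit 1, nat_lit 2, nat_lit 0, nat_lit 2, nat_lit 1, nat_lit 0, nat_lit 1, nat_lit 0]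
def Wt_188_191 (j : ℕ) : List ℕ := bif Nat.blt j 189 then [nat_lit 1, nat_lit 0, nat_lit 1, nat_lit 2, nat_lit 0, nat_lit 2, nat_lit 1, nat_lit 0, nat_lit 2, nat_lit 0, nat_lit 1, nat_lit 0, nat_lit 1, nat_lit 0, nat_lit 1, nat_lit 0, nat_lit 1, nat_lit 2, nat_lit 0] else (Wt_189_191 j)
def Wt_185_191 (j : ℕ) : List ℕ := bif Nat.blt j 188 then (Wt_185_188 j) else (Wt_188_191 j)
def Wt_180_191 (j : ℕ) : List ℕ := bif Nat.blt j 185 then (Wt_180_185 j) else (Wt_185_191 j)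
def Wt_191_193 (j : ℕ) : List ℕ := bif Nat.blt j 192 then [nat_lit 63, nat_lit 2, nat_lit 4, nat_lit 2, nat_lit 3, nat_lit 2, nat_lit 4, nat_lit 2, nat_lit 3, nat_lit 2, nat_lit 4, nat_lit 2, nat_lit 3] else [nat_lit 3, nat_lit 0, nat_lit 3, nat_lit 0, nat_lit 4, nat_lit 2, nat_lit 3, nat_lit 0, nat_lit 3, nat_lit 0, nat_lit 4, nat_lit 2]
def Wt_194_196 (j : ℕ) : List ℕ := bif Nat.blt j 195 then [nat_lit 63, nat_lit 0, nat_lit 1, nat_lit 0, nat_lit 1, nat_lit 0, nat_lit 2, nat_lit 0, nat_lit 1, nat_lit 2, nat_lit 0, nat_lit 2, nat_lit 1, nat_lit 0, nat_lit 1, nat_lit 0, nat_lit 2, nat_lit 1, nat_lit 0, nat_lit 1] else [nat_lit 63, nat_lit 2, nat_lit 0, nat_lit 2, nat_lit 0, nat_lit 2, nat_lit 0, nat_lit 2, nat_lit 0, nat_lit 2, nat_lit 0, nat_lit 2, nat_lit 0, nat_lit 2, nat_lit 0, nat_lit 2, nat_lit 0, nat_lit 2, nat_lit 0, nat_lit 2, nat_lit 0, nat_lit 2, nat_lit 0, nat_lit 2, nat_lit 0, nat_lit 2, nat_lit 0, nat_lit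 2, nat_lit 0, nat_lit 2, nat_lit 0, nat_lit 2, nat_lit 0, nat_lit 2, nat_lit 0]
def Wt_193_196 (j : ℕ) : List ℕ := bif Nat.blt j 194 then [nat_lit 0, nat_lit 1, nat_lit 0, nat_lit 1, nat_lit 2, nat_lit 0, nat_lit 2, nat_lit 1, nat_lit 0, nat_lit 2, nat_lit 0, nat_lit 1, nat_lit 0, nat_lit 1, nat_lit 0, nat_lit 1, nat_lit 0, nat_lit 1, nat_lit 2] else (Wt_194_196 j)
def Wt_191_196 (j : ℕ) : List ℕ := bif Nat.blt j 193 then (Wt_191_193 j) else (Wt_193_196 j)
def Wt_197_199 (j : ℕ) : List ℕ := bif Nat.blt j 198 then [nat_lit 0, nat_lit 1, nat_lit 0, nat_lit 1, nat_lit 2, nat_lit 0, nat_lit 1, nat_lit 0, nat_lit 1, nat_lit 2, nat_lit 0, nat_lit 2, nat_lit 1, nat_lit 0, nat_lit 2, nat_lit 0, nat_lit 1, nat_lit 0, nat_lit 1] else [nat_lit 63, nat_lit 2, nat_lit 0, nat_lit 1, nat_lit 2, nat_lit 0, nat_lit 2, nat_lit 1, nat_lit 0, nat_lit 1, nat_lit 0, nat_lit 2, nat_lit 1, nat_lit 0, nat_lit 1, nat_lit 0, nat_lit 1, nat_lit 0,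 nat_lit 1, nat_lit 0]
def Wt_196_199 (j : ℕ) : List ℕ := bif Nat.blt j 197 then [nat_lit 63, nat_lit 4, nat_lit 2, nat_lit 1, nat_lit 3, nat_lit 4, nat_lit 0, nat_lit 3, nat_lit 0, nat_lit 1, nat_lit 0, nat_lit 4, nat_lit 1, nat_lit 0, nat_lit 4, nat_lit 3, nat_lit 1] else (Wt_197_199 j)
def Wt_200_202 (j : ℕ) : List ℕ := bif Nat.blt j 201 then [nat_lit 63, nat_lit 3, nat_lit 0, nat_lit 4, nat_lit 2, nat_lit 3, nat_lit 0, nat_lit 3, nat_lit 0, nat_lit 4, nat_lit 2, nat_lit 3, nat_lit 0] else [nat_lit 63, nat_lit 4, nat_lit 0, nat_lit 3, nat_lit 1, nat_lit 3, nat_lit 0, nat_lit 4, nat_lit 0, nat_lit 2, nat_lit 1, nat_lit 0, nat_lit 1, nat_lit 2, nat_lit 0]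
def Wt_199_202 (j : ℕ) : List ℕ := bif Nat.blt j 200 then [nat_lit 63, nat_lit 4, nat_lit 63, nat_lit 4, nat_lit 63] else (Wt_200_202 j)
def Wt_196_202 (j : ℕ) : List ℕ := bif Nat.blt j 199 then (Wt_196_199 j) else (Wt_199_202 j)
def Wt_191_202 (j : ℕ) : List ℕ := bif Nat.blt j 196 then (Wt_191_196 j) else (Wt_196_202 j)
def Wt_180_202 (j : ℕ) : List ℕ := bif Nat.blt j 191 then (Wt_180_191 j) else (Wt_191_202 j)
def Wt_202_204 (j : ℕ) : List ℕ := bif Nat.blt j 203 then [nat_lit 63, nat_lit 0, nat_lit 2, nat_lit 0, nat_lit 2, nat_lit 0, nat_lit 2, nat_lit 0, nat_lit 2, nat_lit 0, nat_lit 2, nat_lit 0, nat_lit 2, nat_lit 0, nat_lit 2, nat_lit 0, nat_lit 2, nat_lit 0, nat_lit 2, nat_lit 0, nat_lit 2, nat_lit 0, nat_lit 2, nat_lit 0, nat_lit 2, nat_lit 0, nat_lit 2, nat_lit 0, nat_lit 2, nat_lit 0, nat_lit 2, nat_lit 0, nat_lit 2, nat_lit 0, nat_lit 2] else [nat_lit 63, nat_lit 1, nat_lit 0, nat_lit 1, nat_lit 0, nat_lit 1,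 nat_lit 0, nat_lit 1, nat_lit 0, nat_lit 1, nat_lit 0, nat_lit 1, nat_lit 0, nat_lit 1, nat_lit 0, nat_lit 1, nat_lit 0, nat_lit 1, nat_lit 0, nat_lit 1, nat_lit 0, nat_lit 1, nat_lit 0, nat_lit 1, nat_lit 0, nat_lit 1, nat_lit 0, nat_lit 1, nat_lit 0, nat_lit 1, nat_lit 0, nat_lit 1, nat_lit 0, nat_lit 1, nat_lit 0]
def Wt_205_207 (j : ℕ) : List ℕ := bif Nat.blt j 206 then [nat_lit 63, nat_lit 0, nat_lit 4, nat_lit 2, nat_lit 3, nat_lit 0, nat_lit 3, nat_lit 0, nat_lit 4, nat_lit 2, nat_lit 3, nat_lit 0, nat_lit 3] else [nat_lit 63, nat_lit 2, nat_lit 1, nat_lit 0, nat_lit 1, nat_lit 2, nat_lit 0, nat_lit 4, nat_lit 0, nat_lit 3, nat_lit 1, nat_lit 3, nat_lit 0, nat_lit 4, nat_lit 0]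
def Wt_204_207 (j : ℕ) : List ℕ := bif Nat.blt j 205 then [nat_lit 0, nat_lit 2, nat_lit 0, nat_lit 2, nat_lit 0, nat_lit 2, nat_lit 0, nat_lit 2, nat_lit 0, nat_lit 2, nat_lit 0, nat_lit 2, nat_lit 0, nat_lit 2, nat_lit 0, nat_lit 2, nat_lit 0, nat_lit 2, nat_lit 0, nat_lit 2, nat_lit 0, nat_lit 2, nat_lit 0, nat_lit 2, nat_lit 0, nat_lit 2, nat_lit 0, nat_lit 2, nat_lit 0, nat_lit 2, nat_lit 0, nat_lit 2, nat_lit 0, nat_lit 2] else (Wt_205_207 j)
def Wt_202_207 (j : ℕ) : List ℕ := bif Nat.blt j 204 then (Wt_202_204 j) else (Wt_204_207 j)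
def Wt_208_210 (j : ℕ) : List ℕ := bif Nat.blt j 209 then [nat_lit 0, nat_lit 2, nat_lit 1, nat_lit 0, nat_lit 1, nat_lit 0, nat_lit 1, nat_lit 0, nat_lit 1, nat_lit 0, nat_lit 2, nat_lit 0, nat_lit 1, nat_lit 2, nat_lit 0, nat_lit 2, nat_lit 1, nat_lit 0, nat_lit 1] else [nat_lit 0, nat_lit 2, nat_lit 0, nat_lit 1, nat_lit 2, nat_lit 0, nat_lit 2, nat_lit 1, nat_lit 0, nat_lit 1, nat_lit 0, nat_lit 2, nat_lit 1, nat_lit 0, nat_lit 1, nat_lit 0, nat_lit 1, nat_lit 0, nat_lit 1]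
def Wt_207_210 (j : ℕ) : List ℕ := bif Nat.blt j 208 then [nat_lit 1, nat_lit 0, nat_lit 2, nat_lit 1, nat_lit 4, nat_lit 3, nat_lit 1, nat_lit 4, nat_lit 1, nat_lit 3, nat_lit 0, nat_lit 3, nat_lit 0, nat_lit 2, nat_lit 3, nat_lit 4, nat_lit 2] else (Wt_208_210 j)
def Wt_211_213 (j : ℕ) : List ℕ := bif Nat.blt j 212 then [nat_lit 0, nat_lit 63, nat_lit 0, nat_lit 63] else [nat_lit 0, nat_lit 1, nat_lit 0, nat_lit 1, nat_lit 0, nat_lit 2, nat_lit 0, nat_lit 1, nat_lit 2, nat_lit 0, nat_lit 2, nat_lit 1, nat_lit 0, nat_lit 1, nat_lit 0, nat_lit 2, nat_lit 1, nat_lit 0, nat_lit 1]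
def Wt_210_213 (j : ℕ) : List ℕ := bif Nat.blt j 211 then [nat_lit 1, nat_lit 3, nat_lit 4, nat_lit 1, nat_lit 2, nat_lit 0, nat_lit 1, nat_lit 2, nat_lit 4, nat_lit 3, nat_lit 2, nat_lit 0, nat_lit 3, nat_lit 0, nat_lit 3, nat_lit 1, nat_lit 4] else (Wt_211_213 j)
def Wt_207_213 (j : ℕ) : List ℕ := bif Nat.blt j 210 then (Wt_207_210 j) else (Wt_210_213 j)
def Wt_202_213 (j : ℕ) : List ℕ := bif Nat.blt j 207 then (Wt_202_207 j) else (Wt_207_213 j)
def Wt_214_216 (j : ℕ) : List ℕ := bif Nat.blt j 215 then [nat_lit 63, nat_lit 2, nat_lit 3, nat_lit 2, nat_lit 4, nat_lit 2, nat_lit 3, nat_lit 2, nat_lit 4, nat_lit 2, nat_lit 3, nat_lit 2, nat_lit 4] else [nat_lit 63, nat_lit 4, nat_lit 1, nat_lit 2, nat_lit 0, nat_lit 1, nat_lit 2, nat_lit 4, nat_lit 3, nat_lit 2, nat_lit 0, nat_lit 3, nat_lit 0, nat_lit 3, nat_lit 1, nat_lit 4, nat_lit 1, nat_lit 3]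
def Wt_213_216 (j : ℕ) : List ℕ := bif Nat.blt j 214 then [nat_lit 63, nat_lit 0, nat_lit 3, nat_lit 0, nat_lit 3, nat_lit 2, nat_lit 4, nat_lit 0, nat_lit 3, nat_lit 0, nat_lit 3, nat_lit 2, nat_lit 4] else (Wt_214_216 j)
def Wt_217_219 (j : ℕ) : List ℕ := bif Nat.blt j 218 then [nat_lit 3, nat_lit 0, nat_lit 3, nat_lit 0, nat_lit 2, nat_lit 3, nat_lit 4, nat_lit 2, nat_lit 1, nat_lit 0, nat_lit 2, nat_lit 1, nat_lit 4, nat_lit 3, nat_lit 1, nat_lit 4, nat_lit 1] else [nat_lit 63, nat_lit 3, nat_lit 2, nat_lit 4, nat_lit 2, nat_lit 3, nat_lit 2, nat_lit 4, nat_lit 2, nat_lit 3, nat_lit 2, nat_lit 4, nat_lit 2]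
def Wt_216_219 (j : ℕ) : List ℕ := bif Nat.blt j 217 then [nat_lit 63, nat_lit 3, nat_lit 0, nat_lit 3, nat_lit 2, nat_lit 4, nat_lit 0, nat_lit 3, nat_lit 0, nat_lit 3, nat_lit 2, nat_lit 4, nat_lit 0] else (Wt_217_219 j)
def Wt_213_219 (j : ℕ) : List ℕ := bif Nat.blt j 216 then (Wt_213_216 j) else (Wt_216_219 j)
def Wt_220_222 (j : ℕ) : List ℕ := bif Nat.blt j 221 then [nat_lit 2, nat_lit 63, nat_lit 2, nat_lit 63] else [nat_lit 63, nat_lit 2, nat_lit 0, nat_lit 1, nat_lit 2, nat_lit 4, nat_lit 3, nat_lit 2, nat_lit 0, nat_lit 3, nat_lit 0, nat_lit 3, nat_lit 1, nat_lit 4, nat_lit 1, nat_lit 3, nat_lit 4, nat_lit 1]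
def Wt_219_222 (j : ℕ) : List ℕ := bif Nat.blt j 220 then [nat_lit 2, nat_lit 0, nat_lit 2, nat_lit 0, nat_lit 2, nat_lit 0, nat_lit 2, nat_lit 0, nat_lit 2, nat_lit 0, nat_lit 2, nat_lit 0, nat_lit 2, nat_lit 0, nat_lit 2, nat_lit 0, nat_lit 2, nat_lit 0, nat_lit 2, nat_lit 0, nat_lit 2, nat_lit 0, nat_lit 2, nat_lit 0, nat_lit 2, nat_lit 0, nat_lit 2, nat_lit 0, nat_lit 2, nat_lit 0, nat_lit 2, nat_lit 0, nat_lit 2, nat_lit 0] else (Wt_220_222 j)
def Wt_223_225 (j : ℕ) : List ℕ := bif Nat.blt j 224 then [nat_lit 63, nat_lit 2, nat_lit 3, nat_lit 0, nat_lit 3, nat_lit 0, nat_lit 4, nat_lit 2, nat_lit 3, nat_lit 0, nat_lit 3, nat_lit 0, nat_lit 4] else [nat_lit 3, nat_lit 4, nat_lit 1, nat_lit 2, nat_lit 0, nat_lit 1, nat_lit 2, nat_lit 4, nat_lit 3, nat_lit 2, nat_lit 0, nat_lit 3, nat_lit 0, nat_lit 3, nat_lit 1, nat_lit 4, nat_lit 1]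
def Wt_222_225 (j : ℕ) : List ℕ := bif Nat.blt j 223 then [nat_lit 4, nat_lit 3, nat_lit 1, nat_lit 4, nat_lit 2, nat_lit 1, nat_lit 3, nat_lit 4, nat_lit 0, nat_lit 3, nat_lit 0, nat_lit 1, nat_lit 0, nat_lit 4, nat_lit 1, nat_lit 0] else (Wt_223_225 j)
def Wt_219_225 (j : ℕ) : List ℕ := bif Nat.blt j 222 then (Wt_219_222 j) else (Wt_222_225 j)
def Wt_213_225 (j : ℕ) : List ℕ := bif Nat.blt j 219 then (Wt_213_219 j) else (Wt_219_225 j)
def Wt_202_225 (j : ℕ) : List ℕ := bif Nat.blt j 213 then (Wt_202_213 j) else (Wt_213_225 j)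
def Wt_180_225 (j : ℕ) : List ℕ := bif Nat.blt j 202 then (Wt_180_202 j) else (Wt_202_225 j)
def Wt_225_227 (j : ℕ) : List ℕ := bif Nat.blt j 226 then [nat_lit 63, nat_lit 2, nat_lit 0, nat_lit 3, nat_lit 0, nat_lit 3, nat_lit 1, nat_lit 4, nat_lit 1, nat_lit 3, nat_lit 4, nat_lit 1, nat_lit 2, nat_lit 0, nat_lit 1, nat_lit 2, nat_lit 4, nat_lit 3] else [nat_lit 63, nat_lit 0, nat_lit 3, nat_lit 2, nat_lit 4, nat_lit 0, nat_lit 3, nat_lit 0, nat_lit 3, nat_lit 2, nat_lit 4, nat_lit 0, nat_lit 3]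
def Wt_228_230 (j : ℕ) : List ℕ := bif Nat.blt j 229 then [nat_lit 1, nat_lit 4, nat_lit 1, nat_lit 3, nat_lit 0, nat_lit 3, nat_lit 0, nat_lit 2, nat_lit 3, nat_lit 4, nat_lit 2, nat_lit 1, nat_lit 0, nat_lit 2, nat_lit 1, nat_lit 4, nat_lit 3] else [nat_lit 63, nat_lit 3, nat_lit 0, nat_lit 1, nat_lit 0, nat_lit 4, nat_lit 1, nat_lit 0, nat_lit 4, nat_lit 3, nat_lit 1, nat_lit 4, nat_lit 2, nat_lit 1, nat_lit 3, nat_lit 4, nat_lit 0]
def Wt_227_230 (j : ℕ) : List ℕ := bif Nat.blt j 228 then [nat_lit 1, nat_lit 3, nat_lit 0, nat_lit 3, nat_lit 0, nat_lit 2, nat_lit 3, nat_lit 4, nat_lit 2, nat_lit 1, nat_lit 0, nat_lit 2, nat_lit 1, nat_lit 4, nat_lit 3, nat_lit 1, nat_lit 4] else (Wt_228_230 j)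
def Wt_225_230 (j : ℕ) : List ℕ := bif Nat.blt j 227 then (Wt_225_227 j) else (Wt_227_230 j)
def Wt_231_233 (j : ℕ) : List ℕ := bif Nat.blt j 232 then [nat_lit 63, nat_lit 1, nat_lit 2, nat_lit 0, nat_lit 1, nat_lit 2, nat_lit 4, nat_lit 3, nat_lit 2, nat_lit 0, nat_lit 3, nat_lit 0, nat_lit 3, nat_lit 1, nat_lit 4, nat_lit 1, nat_lit 3, nat_lit 4] else [nat_lit 63, nat_lit 4, nat_lit 2, nat_lit 3, nat_lit 0, nat_lit 3, nat_lit 0, nat_lit 4, nat_lit 2, nat_lit 3, nat_lit 0, nat_lit 3, nat_lit 0]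
def Wt_230_233 (j : ℕ) : List ℕ := bif Nat.blt j 231 then [nat_lit 3, nat_lit 1, nat_lit 4, nat_lit 1, nat_lit 3, nat_lit 0, nat_lit 3, nat_lit 0, nat_lit 2, nat_lit 3, nat_lit 4, nat_lit 2, nat_lit 1, nat_lit 0, nat_lit 2, nat_lit 1, nat_lit 4] else (Wt_231_233 j)
def Wt_234_236 (j : ℕ) : List ℕ := bif Nat.blt j 235 then [nat_lit 63, nat_lit 1, nat_lit 4, nat_lit 0, nat_lit 1, nat_lit 0, nat_lit 3, nat_lit 0, nat_lit 4, nat_lit 3, nat_lit 1, nat_lit 2, nat_lit 4, nat_lit 1, nat_lit 3, nat_lit 4, nat_lit 0] else [nat_lit 63, nat_lit 2, nat_lit 4, nat_lit 1, nat_lit 3, nat_lit 4, nat_lit 0, nat_lit 1, nat_lit 4, nat_lit 0, nat_lit 1, nat_lit 0, nat_lit 3, nat_lit 0, nat_lit 4, nat_lit 3, nat_lit 1]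
def Wt_233_236 (j : ℕ) : List ℕ := bif Nat.blt j 234 then [nat_lit 63, nat_lit 3, nat_lit 1, nat_lit 3, nat_lit 0, nat_lit 4, nat_lit 0, nat_lit 2, nat_lit 1, nat_lit 0, nat_lit 1, nat_lit 2, nat_lit 0, nat_lit 4, nat_lit 0] else (Wt_234_236 j)
def Wt_230_236 (j : ℕ) : List ℕ := bif Nat.blt j 233 then (Wt_230_233 j) else (Wt_233_236 j)
def Wt_225_236 (j : ℕ) : List ℕ := bif Nat.blt j 230 then (Wt_225_230 j) else (Wt_230_236 j)
def Wt_236_238 (j : ℕ) : List ℕ := bif Nat.blt j 237 then [nat_lit 63, nat_lit 1, nat_lit 0, nat_lit 2, nat_lit 1, nat_lit 4, nat_lit 3, nat_lit 1, nat_lit 4, nat_lit 1, nat_lit 3, nat_lit 0, nat_lit 3, nat_lit 0, nat_lit 2, nat_lit 3, nat_lit 4, nat_lit 2] else [nat_lit 63, nat_lit 1, nat_lit 3, nat_lit 4, nat_lit 1, nat_lit 2, nat_lit 0, nat_lit 1, nat_lit 2, nat_lit 4, nat_lit 3, nat_lit 2, nat_lit 0, nat_lit 3, nat_lit 0, nat_lit 3, nat_lit 1, nat_lit 4]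
def Wt_239_241 (j : ℕ) : List ℕ := bif Nat.blt j 240 then [nat_lit 63, nat_lit 3, nat_lit 4, nat_lit 1, nat_lit 2, nat_lit 0, nat_lit 1, nat_lit 2, nat_lit 4, nat_lit 3, nat_lit 2, nat_lit 0, nat_lit 3, nat_lit 0, nat_lit 3, nat_lit 1, nat_lit 4, nat_lit 1] else [nat_lit 4, nat_lit 0, nat_lit 3, nat_lit 0, nat_lit 3, nat_lit 2, nat_lit 4, nat_lit 0, nat_lit 3, nat_lit 0, nat_lit 3, nat_lit 2]
def Wt_238_241 (j : ℕ) : List ℕ := bif Nat.blt j 239 then [nat_lit 63, nat_lit 0, nat_lit 3, nat_lit 0, nat_lit 4, nat_lit 3, nat_lit 1, nat_lit 2, nat_lit 4, nat_lit 1, nat_lit 3, nat_lit 4, nat_lit 0, nat_lit 1, nat_lit 4, nat_lit 0, nat_lit 1] else (Wt_239_241 j)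
def Wt_236_241 (j : ℕ) : List ℕ := bif Nat.blt j 238 then (Wt_236_238 j) else (Wt_238_241 j)
def Wt_242_244 (j : ℕ) : List ℕ := bif Nat.blt j 243 then [nat_lit 63, nat_lit 2, nat_lit 1, nat_lit 0, nat_lit 2, nat_lit 1, nat_lit 4, nat_lit 3, nat_lit 1, nat_lit 4, nat_lit 1, nat_lit 3, nat_lit 0, nat_lit 3, nat_lit 0, nat_lit 2, nat_lit 3, nat_lit 4] else [nat_lit 63, nat_lit 1, nat_lit 4, nat_lit 1, nat_lit 3, nat_lit 0, nat_lit 3, nat_lit 0, nat_lit 2, nat_lit 3, nat_lit 4, nat_lit 2, nat_lit 1, nat_lit 0, nat_lit 2, nat_lit 1, nat_lit 4, nat_lit 3]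
def Wt_241_244 (j : ℕ) : List ℕ := bif Nat.blt j 242 then [nat_lit 63, nat_lit 4, nat_lit 3, nat_lit 1, nat_lit 4, nat_lit 1, nat_lit 3, nat_lit 0, nat_lit 3, nat_lit 0, nat_lit 2, nat_lit 3, nat_lit 4, nat_lit 2, nat_lit 1, nat_lit 0, nat_lit 2, nat_lit 1] else (Wt_242_244 j)
def Wt_245_247 (j : ℕ) : List ℕ := bif Nat.blt j 246 then [nat_lit 63, nat_lit 4, nat_lit 1, nat_lit 3, nat_lit 0, nat_lit 3, nat_lit 0, nat_lit 2, nat_lit 3, nat_lit 4, nat_lit 2, nat_lit 1, nat_lit 0, nat_lit 2, nat_lit 1, nat_lit 4, nat_lit 3, nat_lit 1] else [nat_lit 63, nat_lit 1, nat_lit 0, nat_lit 4, nat_lit 3, nat_lit 1, nat_lit 4, nat_lit 2, nat_lit 1, nat_lit 3, nat_lit 4, nat_lit 0, nat_lit 3, nat_lit 0, nat_lit 1, nat_lit 0, nat_lit 4]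
def Wt_244_247 (j : ℕ) : List ℕ := bif Nat.blt j 245 then [nat_lit 63, nat_lit 0, nat_lit 1, nat_lit 0, nat_lit 3, nat_lit 0, nat_lit 4, nat_lit 3, nat_lit 1, nat_lit 2, nat_lit 4, nat_lit 1, nat_lit 3, nat_lit 4, nat_lit 0, nat_lit 1, nat_lit 4] else (Wt_245_247 j)
def Wt_241_247 (j : ℕ) : List ℕ := bif Nat.blt j 244 then (Wt_241_244 j) else (Wt_244_247 j)
def Wt_236_247 (j : ℕ) : List ℕ := bif Nat.blt j 241 then (Wt_236_241 j) else (Wt_241_247 j)
def Wt_225_247 (j : ℕ) : List ℕ := bif Nat.blt j 236 then (Wt_225_236 j) else (Wt_236_247 j)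
def Wt_247_249 (j : ℕ) : List ℕ := bif Nat.blt j 248 then [nat_lit 63, nat_lit 3, nat_lit 4, nat_lit 0, nat_lit 1, nat_lit 4, nat_lit 0, nat_lit 1, nat_lit 0, nat_lit 3, nat_lit 0, nat_lit 4, nat_lit 3, nat_lit 1, nat_lit 2, nat_lit 4, nat_lit 1] else [nat_lit 1, nat_lit 3, nat_lit 4, nat_lit 0, nat_lit 3, nat_lit 0, nat_lit 1, nat_lit 0, nat_lit 4, nat_lit 1, nat_lit 0, nat_lit 4, nat_lit 3, nat_lit 1, nat_lit 4, nat_lit 2]
def Wt_250_252 (j : ℕ) : List ℕ := bif Nat.blt j 251 then [nat_lit 63, nat_lit 4, nat_lit 0, nat_lit 1, nat_lit 4, nat_lit 0, nat_lit 1, nat_lit 0, nat_lit 3, nat_lit 0, nat_lit 4, nat_lit 3, nat_lit 1, nat_lit 2, nat_lit 4, nat_lit 1, nat_lit 3] else [nat_lit 63, nat_lit 1, nat_lit 4, nat_lit 2, nat_lit 1, nat_lit 3, nat_lit 4, nat_lit 0, nat_lit 3, nat_lit 0, nat_lit 1, nat_lit 0, nat_lit 4, nat_lit 1, nat_lit 0, nat_lit 4, nat_lit 3]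
def Wt_249_252 (j : ℕ) : List ℕ := bif Nat.blt j 250 then [nat_lit 0, nat_lit 4, nat_lit 3, nat_lit 1, nat_lit 4, nat_lit 2, nat_lit 1, nat_lit 3, nat_lit 4, nat_lit 0, nat_lit 3, nat_lit 0, nat_lit 1, nat_lit 0, nat_lit 4, nat_lit 1] else (Wt_250_252 j)
def Wt_247_252 (j : ℕ) : List ℕ := bif Nat.blt j 249 then (Wt_247_249 j) else (Wt_249_252 j)
def Wt_253_255 (j : ℕ) : List ℕ := bif Nat.blt j 254 then [nat_lit 63, nat_lit 1, nat_lit 3, nat_lit 0, nat_lit 3, nat_lit 0, nat_lit 2, nat_lit 3, nat_lit 4, nat_lit 2, nat_lit 1, nat_lit 0, nat_lit 2, nat_lit 1, nat_lit 4, nat_lit 3, nat_lit 1, nat_lit 4] else [nat_lit 0, nat_lit 3, nat_lit 0, nat_lit 1, nat_lit 0, nat_lit 4, nat_lit 1, nat_lit 0, nat_lit 4, nat_lit 3, nat_lit 1, nat_lit 4, nat_lit 2, nat_lit 1, nat_lit 3, nat_lit 4]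
def Wt_252_255 (j : ℕ) : List ℕ := bif Nat.blt j 253 then [nat_lit 63, nat_lit 0, nat_lit 3, nat_lit 0, nat_lit 2, nat_lit 3, nat_lit 4, nat_lit 2, nat_lit 1, nat_lit 0, nat_lit 2, nat_lit 1, nat_lit 4, nat_lit 3, nat_lit 1, nat_lit 4, nat_lit 1, nat_lit 3] else (Wt_253_255 j)
def Wt_256_258 (j : ℕ) : List ℕ := bif Nat.blt j 257 then [nat_lit 1, nat_lit 2, nat_lit 4, nat_lit 1, nat_lit 3, nat_lit 4, nat_lit 0, nat_lit 1, nat_lit 4, nat_lit 0, nat_lit 1, nat_lit 0, nat_lit 3, nat_lit 0, nat_lit 4, nat_lit 3] else [nat_lit 63, nat_lit 0, nat_lit 2, nat_lit 1, nat_lit 0, nat_lit 1, nat_lit 2, nat_lit 0, nat_lit 4, nat_lit 0, nat_lit 3, nat_lit 1, nat_lit 3, nat_lit 0, nat_lit 4]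
def Wt_255_258 (j : ℕ) : List ℕ := bif Nat.blt j 256 then [nat_lit 3, nat_lit 4, nat_lit 0, nat_lit 1, nat_lit 4, nat_lit 0, nat_lit 1, nat_lit 0, nat_lit 3, nat_lit 0, nat_lit 4, nat_lit 3, nat_lit 1, nat_lit 2, nat_lit 4, nat_lit 1] else (Wt_256_258 j)
def Wt_252_258 (j : ℕ) : List ℕ := bif Nat.blt j 255 then (Wt_252_255 j) else (Wt_255_258 j)
def Wt_247_258 (j : ℕ) : List ℕ := bif Nat.blt j 252 then (Wt_247_252 j) else (Wt_252_258 j)
def Wt_259_261 (j : ℕ) : List ℕ := bif Nat.blt j 260 then [nat_lit 63, nat_lit 0, nat_lit 3, nat_lit 0, nat_lit 4, nat_lit 2, nat_lit 3, nat_lit 0, nat_lit 3, nat_lit 0, nat_lit 4, nat_lit 2, nat_lit 3] else [nat_lit 4, nat_lit 2, nat_lit 1, nat_lit 3, nat_lit 4, nat_lit 0, nat_lit 3, nat_lit 0, nat_lit 1, nat_lit 0, nat_lit 4, nat_lit 1, nat_lit 0, nat_lit 4, nat_lit 3, nat_lit 1]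
def Wt_258_261 (j : ℕ) : List ℕ := bif Nat.blt j 259 then [nat_lit 63, nat_lit 3, nat_lit 1, nat_lit 4, nat_lit 1, nat_lit 3, nat_lit 0, nat_lit 3, nat_lit 0, nat_lit 2, nat_lit 3, nat_lit 4, nat_lit 2, nat_lit 1, nat_lit 0, nat_lit 2, nat_lit 1, nat_lit 4] else (Wt_259_261 j)
def Wt_262_264 (j : ℕ) : List ℕ := bif Nat.blt j 263 then [nat_lit 4, nat_lit 2, nat_lit 1, nat_lit 0, nat_lit 2, nat_lit 1, nat_lit 4, nat_lit 3, nat_lit 1, nat_lit 4, nat_lit 1, nat_lit 3, nat_lit 0, nat_lit 3, nat_lit 0, nat_lit 2, nat_lit 3] else [nat_lit 63, nat_lit 0, nat_lit 4, nat_lit 3, nat_lit 1, nat_lit 4, nat_lit 2, nat_lit 1, nat_lit 3, nat_lit 4, nat_lit 0, nat_lit 3, nat_lit 0, nat_lit 1, nat_lit 0, nat_lit 4, nat_lit 1]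
def Wt_261_264 (j : ℕ) : List ℕ := bif Nat.blt j 262 then [nat_lit 63, nat_lit 3, nat_lit 1, nat_lit 4, nat_lit 1, nat_lit 3, nat_lit 4, nat_lit 1, nat_lit 2, nat_lit 0, nat_lit 1, nat_lit 2, nat_lit 4, nat_lit 3, nat_lit 2, nat_lit 0, nat_lit 3, nat_lit 0] else (Wt_262_264 j)
def Wt_258_264 (j : ℕ) : List ℕ := bif Nat.blt j 261 then (Wt_258_261 j) else (Wt_261_264 j)
def Wt_265_267 (j : ℕ) : List ℕ := bif Nat.blt j 266 then [nat_lit 63, nat_lit 3, nat_lit 4, nat_lit 2, nat_lit 1, nat_lit 0, nat_lit 2, nat_lit 1, nat_lit 4, nat_lit 3, nat_lit 1, nat_lit 4, nat_lit 1, nat_lit 3, nat_lit 0, nat_lit 3, nat_lit 0, nat_lit 2] else [nat_lit 63, nat_lit 4, nat_lit 0, nat_lit 3, nat_lit 0, nat_lit 3, nat_lit 2, nat_lit 4, nat_lit 0, nat_lit 3, nat_lit 0, nat_lit 3, nat_lit 2]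
def Wt_264_267 (j : ℕ) : List ℕ := bif Nat.blt j 265 then [nat_lit 63, nat_lit 2, nat_lit 4, nat_lit 3, nat_lit 2, nat_lit 0, nat_lit 3, nat_lit 0, nat_lit 3, nat_lit 1, nat_lit 4, nat_lit 1, nat_lit 3, nat_lit 4, nat_lit 1, nat_lit 2, nat_lit 0, nat_lit 1] else (Wt_265_267 j)
def Wt_268_270 (j : ℕ) : List ℕ := bif Nat.blt j 269 then [nat_lit 63, nat_lit 3, nat_lit 0, nat_lit 3, nat_lit 0, nat_lit 2, nat_lit 3, nat_lit 4, nat_lit 2, nat_lit 1, nat_lit 0, nat_lit 2, nat_lit 1, nat_lit 4, nat_lit 3, nat_lit 1, nat_lit 4, nat_lit 1] else [nat_lit 0, nat_lit 1, nat_lit 4, nat_lit 0, nat_lit 1, nat_lit 0, nat_lit 3, nat_lit 0, nat_lit 4, nat_lit 3, nat_lit 1, nat_lit 2, nat_lit 4, nat_lit 1, nat_lit 3, nat_lit 4]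
def Wt_267_270 (j : ℕ) : List ℕ := bif Nat.blt j 268 then [nat_lit 63, nat_lit 1, nat_lit 4, nat_lit 3, nat_lit 1, nat_lit 4, nat_lit 1, nat_lit 3, nat_lit 0, nat_lit 3, nat_lit 0, nat_lit 2, nat_lit 3, nat_lit 4, nat_lit 2, nat_lit 1, nat_lit 0, nat_lit 2] else (Wt_268_270 j)
def Wt_264_270 (j : ℕ) : List ℕ := bif Nat.blt j 267 then (Wt_264_267 j) else (Wt_267_270 j)
def Wt_258_270 (j : ℕ) : List ℕ := bif Nat.blt j 264 then (Wt_258_264 j) else (Wt_264_270 j)
def Wt_247_270 (j : ℕ) : List ℕ := bif Nat.blt j 258 then (Wt_247_258 j) else (Wt_258_270 j)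
def Wt_225_270 (j : ℕ) : List ℕ := bif Nat.blt j 247 then (Wt_225_247 j) else (Wt_247_270 j)
def Wt_180_270 (j : ℕ) : List ℕ := bif Nat.blt j 225 then (Wt_180_225 j) else (Wt_225_270 j)
def Wt_270_272 (j : ℕ) : List ℕ := bif Nat.blt j 271 then [nat_lit 1, nat_lit 0, nat_lit 4, nat_lit 1, nat_lit 0, nat_lit 4, nat_lit 3, nat_lit 1, nat_lit 4, nat_lit 2, nat_lit 1, nat_lit 3, nat_lit 4, nat_lit 0, nat_lit 3, nat_lit 0] else [nat_lit 63, nat_lit 2, nat_lit 4, nat_lit 0, nat_lit 3, nat_lit 0, nat_lit 3, nat_lit 2, nat_lit 4, nat_lit 0, nat_lit 3, nat_lit 0, nat_lit 3]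
def Wt_273_275 (j : ℕ) : List ℕ := bif Nat.blt j 274 then [nat_lit 4, nat_lit 1, nat_lit 2, nat_lit 0, nat_lit 1, nat_lit 2, nat_lit 4, nat_lit 3, nat_lit 2, nat_lit 0, nat_lit 3, nat_lit 0, nat_lit 3, nat_lit 1, nat_lit 4, nat_lit 1, nat_lit 3] else [nat_lit 63, nat_lit 0, nat_lit 4, nat_lit 1, nat_lit 0, nat_lit 4, nat_lit 3, nat_lit 1, nat_lit 4, nat_lit 2, nat_lit 1, nat_lit 3, nat_lit 4, nat_lit 0, nat_lit 3, nat_lit 0, nat_lit 1]
def Wt_272_275 (j : ℕ) : List ℕ := bif Nat.blt j 273 then [nat_lit 63, nat_lit 1, nat_lit 3, nat_lit 4, nat_lit 0, nat_lit 3, nat_lit 0, nat_lit 1, nat_lit 0, nat_lit 4, nat_lit 1, nat_lit 0, nat_lit 4, nat_lit 3, nat_lit 1, nat_lit 4, nat_lit 2] else (Wt_273_275 j)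
def Wt_270_275 (j : ℕ) : List ℕ := bif Nat.blt j 272 then (Wt_270_272 j) else (Wt_272_275 j)
def Wt_276_278 (j : ℕ) : List ℕ := bif Nat.blt j 277 then [nat_lit 63, nat_lit 0, nat_lit 3, nat_lit 0, nat_lit 3, nat_lit 1, nat_lit 4, nat_lit 1, nat_lit 3, nat_lit 4, nat_lit 1, nat_lit 2, nat_lit 0, nat_lit 1, nat_lit 2, nat_lit 4, nat_lit 3, nat_lit 2] else [nat_lit 63, nat_lit 4, nat_lit 0, nat_lit 3, nat_lit 0, nat_lit 1, nat_lit 0, nat_lit 4, nat_lit 1, nat_lit 0, nat_lit 4, nat_lit 3, nat_lit 1, nat_lit 4, nat_lit 2, nat_lit 1, nat_lit 3]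
def Wt_275_278 (j : ℕ) : List ℕ := bif Nat.blt j 276 then [nat_lit 63, nat_lit 4, nat_lit 1, nat_lit 0, nat_lit 4, nat_lit 3, nat_lit 1, nat_lit 4, nat_lit 2, nat_lit 1, nat_lit 3, nat_lit 4, nat_lit 0, nat_lit 3, nat_lit 0, nat_lit 1, nat_lit 0] else (Wt_276_278 j)
def Wt_279_281 (j : ℕ) : List ℕ := bif Nat.blt j 280 then [nat_lit 63, nat_lit 1, nat_lit 0, nat_lit 3, nat_lit 0, nat_lit 4, nat_lit 3, nat_lit 1, nat_lit 2, nat_lit 4, nat_lit 1, nat_lit 3, nat_lit 4, nat_lit 0, nat_lit 1, nat_lit 4, nat_lit 0] else [nat_lit 63, nat_lit 4, nat_lit 3, nat_lit 1, nat_lit 4, nat_lit 2, nat_lit 1, nat_lit 3, nat_lit 4, nat_lit 0, nat_lit 3, nat_lit 0, nat_lit 1, nat_lit 0, nat_lit 4, nat_lit 1, nat_lit 0]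
def Wt_278_281 (j : ℕ) : List ℕ := bif Nat.blt j 279 then [nat_lit 63, nat_lit 2, nat_lit 1, nat_lit 4, nat_lit 3, nat_lit 1, nat_lit 4, nat_lit 1, nat_lit 3, nat_lit 0, nat_lit 3, nat_lit 0, nat_lit 2, nat_lit 3, nat_lit 4, nat_lit 2, nat_lit 1, nat_lit 0] else (Wt_279_281 j)
def Wt_275_281 (j : ℕ) : List ℕ := bif Nat.blt j 278 then (Wt_275_278 j) else (Wt_278_281 j)
def Wt_270_281 (j : ℕ) : List ℕ := bif Nat.blt j 275 then (Wt_270_275 j) else (Wt_275_281 j)
def Wt_281_283 (j : ℕ) : List ℕ := bif Nat.blt j 282 then [nat_lit 63, nat_lit 3, nat_lit 63, nat_lit 3, nat_lit 63] else [nat_lit 63, nat_lit 63, nat_lit 63]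
def Wt_284_286 (j : ℕ) : List ℕ := bif Nat.blt j 285 then [nat_lit 0, nat_lit 3, nat_lit 0, nat_lit 4, nat_lit 3, nat_lit 1, nat_lit 2, nat_lit 4, nat_lit 1, nat_lit 3, nat_lit 4, nat_lit 0, nat_lit 1, nat_lit 4, nat_lit 0, nat_lit 1] else [nat_lit 4, nat_lit 3, nat_lit 1, nat_lit 4, nat_lit 1, nat_lit 3, nat_lit 0, nat_lit 3, nat_lit 0, nat_lit 2, nat_lit 3, nat_lit 4, nat_lit 2, nat_lit 1, nat_lit 0, nat_lit 2, nat_lit 1]
def Wt_283_286 (j : ℕ) : List ℕ := bif Nat.blt j 284 then [nat_lit 4, nat_lit 0, nat_lit 3, nat_lit 1, nat_lit 3, nat_lit 0, nat_lit 4, nat_lit 0, nat_lit 3, nat_lit 1, nat_lit 3, nat_lit 0] else (Wt_284_286 j)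
def Wt_281_286 (j : ℕ) : List ℕ := bif Nat.blt j 283 then (Wt_281_283 j) else (Wt_283_286 j)
def Wt_287_289 (j : ℕ) : List ℕ := bif Nat.blt j 288 then [nat_lit 4, nat_lit 2, nat_lit 3, nat_lit 0, nat_lit 3, nat_lit 0, nat_lit 4, nat_lit 2, nat_lit 3, nat_lit 0, nat_lit 3, nat_lit 0] else [nat_lit 63, nat_lit 1, nat_lit 3, nat_lit 0, nat_lit 4, nat_lit 0, nat_lit 2, nat_lit 1, nat_lit 0, nat_lit 1, nat_lit 2, nat_lit 0, nat_lit 4, nat_lit 0, nat_lit 3]
def Wt_286_289 (j : ℕ) : List ℕ := bif Nat.blt j 287 then [nat_lit 63, nat_lit 0, nat_lit 1, nat_lit 4, nat_lit 0, nat_lit 1, nat_lit 0, nat_lit 3, nat_lit 0, nat_lit 4, nat_lit 3, nat_lit 1, nat_lit 2, nat_lit 4, nat_lit 1, nat_lit 3, nat_lit 4] else (Wt_287_289 j)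
def Wt_290_292 (j : ℕ) : List ℕ := bif Nat.blt j 291 then [nat_lit 1, nat_lit 0, nat_lit 3, nat_lit 0, nat_lit 4, nat_lit 3, nat_lit 1, nat_lit 2, nat_lit 4, nat_lit 1, nat_lit 3, nat_lit 4, nat_lit 0, nat_lit 1, nat_lit 4, nat_lit 0] else [nat_lit 1, nat_lit 4, nat_lit 1, nat_lit 3, nat_lit 4, nat_lit 1, nat_lit 2, nat_lit 0, nat_lit 1, nat_lit 2, nat_lit 4, nat_lit 3, nat_lit 2, nat_lit 0, nat_lit 3, nat_lit 0, nat_lit 3]
def Wt_289_292 (j : ℕ) : List ℕ := bif Nat.blt j 290 then [nat_lit 63, nat_lit 0, nat_lit 1, nat_lit 2, nat_lit 4, nat_lit 3, nat_lit 2, nat_lit 0, nat_lit 3, nat_lit 0, nat_lit 3, nat_lit 1, nat_lit 4, nat_lit 1, nat_lit 3, nat_lit 4, nat_lit 1, nat_lit 2] else (Wt_290_292 j)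
def Wt_286_292 (j : ℕ) : List ℕ := bif Nat.blt j 289 then (Wt_286_289 j) else (Wt_289_292 j)
def Wt_281_292 (j : ℕ) : List ℕ := bif Nat.blt j 286 then (Wt_281_286 j) else (Wt_286_292 j)
def Wt_270_292 (j : ℕ) : List ℕ := bif Nat.blt j 281 then (Wt_270_281 j) else (Wt_281_292 j)
def Wt_292_294 (j : ℕ) : List ℕ := bif Nat.blt j 293 then [nat_lit 63, nat_lit 3, nat_lit 1, nat_lit 2, nat_lit 4, nat_lit 1, nat_lit 3, nat_lit 4, nat_lit 0, nat_lit 1, nat_lit 4, nat_lit 0, nat_lit 1, nat_lit 0, nat_lit 3, nat_lit 0, nat_lit 4] else [nat_lit 0, nat_lit 1, nat_lit 0, nat_lit 3, nat_lit 0, nat_lit 4, nat_lit 3, nat_lit 1, nat_lit 2, nat_lit 4, nat_lit 1, nat_lit 3, nat_lit 4, nat_lit 0, nat_lit 1, nat_lit 4]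
def Wt_295_297 (j : ℕ) : List ℕ := bif Nat.blt j 296 then [nat_lit 63, nat_lit 1, nat_lit 2, nat_lit 4, nat_lit 1, nat_lit 3, nat_lit 4, nat_lit 0, nat_lit 1, nat_lit 4, nat_lit 0, nat_lit 1, nat_lit 0, nat_lit 3, nat_lit 0, nat_lit 4, nat_lit 3] else [nat_lit 63, nat_lit 0, nat_lit 4, nat_lit 0, nat_lit 2, nat_lit 1, nat_lit 0, nat_lit 1, nat_lit 2, nat_lit 0, nat_lit 4, nat_lit 0, nat_lit 3, nat_lit 1, nat_lit 3]
def Wt_294_297 (j : ℕ) : List ℕ := bif Nat.blt j 295 then [nat_lit 0, nat_lit 2, nat_lit 1, nat_lit 4, nat_lit 3, nat_lit 1, nat_lit 4, nat_lit 1, nat_lit 3, nat_lit 0, nat_lit 3, nat_lit 0, nat_lit 2, nat_lit 3, nat_lit 4, nat_lit 2, nat_lit 1] else (Wt_295_297 j)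
def Wt_292_297 (j : ℕ) : List ℕ := bif Nat.blt j 294 then (Wt_292_294 j) else (Wt_294_297 j)
def Wt_298_300 (j : ℕ) : List ℕ := bif Nat.blt j 299 then [nat_lit 63, nat_lit 1, nat_lit 0, nat_lit 1, nat_lit 2, nat_lit 0, nat_lit 4, nat_lit 0, nat_lit 3, nat_lit 1, nat_lit 3, nat_lit 0, nat_lit 4, nat_lit 0, nat_lit 2] else [nat_lit 63, nat_lit 0, nat_lit 3, nat_lit 1, nat_lit 3, nat_lit 0, nat_lit 4, nat_lit 0, nat_lit 2, nat_lit 1, nat_lit 0, nat_lit 1, nat_lit 2, nat_lit 0, nat_lit 4]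
def Wt_297_300 (j : ℕ) : List ℕ := bif Nat.blt j 298 then [nat_lit 63, nat_lit 3, nat_lit 1, nat_lit 4, nat_lit 2, nat_lit 1, nat_lit 3, nat_lit 4, nat_lit 0, nat_lit 3, nat_lit 0, nat_lit 1, nat_lit 0, nat_lit 4, nat_lit 1, nat_lit 0, nat_lit 4] else (Wt_298_300 j)
def Wt_301_303 (j : ℕ) : List ℕ := bif Nat.blt j 302 then [nat_lit 1, nat_lit 2, nat_lit 4, nat_lit 3, nat_lit 2, nat_lit 0, nat_lit 3, nat_lit 0, nat_lit 3, nat_lit 1, nat_lit 4, nat_lit 1, nat_lit 3, nat_lit 4, nat_lit 1, nat_lit 2, nat_lit 0] else [nat_lit 63, nat_lit 2, nat_lit 1, nat_lit 3, nat_lit 4, nat_lit 0, nat_lit 3, nat_lit 0, nat_lit 1, nat_lit 0, nat_lit 4, nat_lit 1, nat_lit 0, nat_lit 4, nat_lit 3, nat_lit 1, nat_lit 4]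
def Wt_300_303 (j : ℕ) : List ℕ := bif Nat.blt j 301 then [nat_lit 63, nat_lit 3, nat_lit 0, nat_lit 4, nat_lit 3, nat_lit 1, nat_lit 2, nat_lit 4, nat_lit 1, nat_lit 3, nat_lit 4, nat_lit 0, nat_lit 1, nat_lit 4, nat_lit 0, nat_lit 1, nat_lit 0] else (Wt_301_303 j)
def Wt_297_303 (j : ℕ) : List ℕ := bif Nat.blt j 300 then (Wt_297_300 j) else (Wt_300_303 j)
def Wt_292_303 (j : ℕ) : List ℕ := bif Nat.blt j 297 then (Wt_292_297 j) else (Wt_297_303 j)
def Wt_304_306 (j : ℕ) : List ℕ := bif Nat.blt j 305 then [nat_lit 63, nat_lit 4, nat_lit 0, nat_lit 2, nat_lit 1, nat_lit 0, nat_lit 1, nat_lit 2, nat_lit 0, nat_lit 4, nat_lit 0, nat_lit 3, nat_lit 1, nat_lit 3, nat_lit 0] else [nat_lit 63, nat_lit 4, nat_lit 2, nat_lit 1, nat_lit 0, nat_lit 2, nat_lit 1, nat_lit 4, nat_lit 3, nat_lit 1, nat_lit 4, nat_lit 1, nat_lit 3, nat_lit 0, nat_lit 3, nat_lit 0, nat_lit 2, nat_lit 3]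
def Wt_303_306 (j : ℕ) : List ℕ := bif Nat.blt j 304 then [nat_lit 4, nat_lit 3, nat_lit 1, nat_lit 2, nat_lit 4, nat_lit 1, nat_lit 3, nat_lit 4, nat_lit 0, nat_lit 1, nat_lit 4, nat_lit 0, nat_lit 1, nat_lit 0, nat_lit 3, nat_lit 0] else (Wt_304_306 j)
def Wt_307_309 (j : ℕ) : List ℕ := bif Nat.blt j 308 then [nat_lit 63, nat_lit 4, nat_lit 3, nat_lit 2, nat_lit 0, nat_lit 3, nat_lit 0, nat_lit 3, nat_lit 1, nat_lit 4, nat_lit 1, nat_lit 3, nat_lit 4, nat_lit 1, nat_lit 2, nat_lit 0, nat_lit 1, nat_lit 2] else [nat_lit 2, nat_lit 0, nat_lit 3, nat_lit 0, nat_lit 3, nat_lit 1, nat_lit 4, nat_lit 1, nat_lit 3, nat_lit 4, nat_lit 1, nat_lit 2, nat_lit 0, nat_lit 1, nat_lit 2, nat_lit 4, nat_lit 3]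
def Wt_306_309 (j : ℕ) : List ℕ := bif Nat.blt j 307 then [nat_lit 4, nat_lit 1, nat_lit 3, nat_lit 4, nat_lit 1, nat_lit 2, nat_lit 0, nat_lit 1, nat_lit 2, nat_lit 4, nat_lit 3, nat_lit 2, nat_lit 0, nat_lit 3, nat_lit 0, nat_lit 3, nat_lit 1] else (Wt_307_309 j)
def Wt_303_309 (j : ℕ) : List ℕ := bif Nat.blt j 306 then (Wt_303_306 j) else (Wt_306_309 j)
def Wt_310_312 (j : ℕ) : List ℕ := bif Nat.blt j 311 then [nat_lit 2, nat_lit 1, nat_lit 4, nat_lit 3, nat_lit 1, nat_lit 4, nat_lit 1, nat_lit 3, nat_lit 0, nat_lit 3, nat_lit 0, nat_lit 2, nat_lit 3, nat_lit 4, nat_lit 2, nat_lit 1, nat_lit 0] else [nat_lit 63, nat_lit 3, nat_lit 2, nat_lit 0, nat_lit 3, nat_lit 0, nat_lit 3, nat_lit 1, nat_lit 4, nat_lit 1, nat_lit 3, nat_lit 4, nat_lit 1, nat_lit 2, nat_lit 0, nat_lit 1, nat_lit 2, nat_lit 4]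
def Wt_309_312 (j : ℕ) : List ℕ := bif Nat.blt j 310 then [nat_lit 63, nat_lit 0, nat_lit 1, nat_lit 0, nat_lit 4, nat_lit 1, nat_lit 0, nat_lit 4, nat_lit 3, nat_lit 1, nat_lit 4, nat_lit 2, nat_lit 1, nat_lit 3, nat_lit 4, nat_lit 0, nat_lit 3] else (Wt_310_312 j)
def Wt_313_315 (j : ℕ) : List ℕ := bif Nat.blt j 314 then [nat_lit 63, nat_lit 4, nat_lit 0, nat_lit 1, nat_lit 0, nat_lit 3, nat_lit 0, nat_lit 4, nat_lit 3, nat_lit 1, nat_lit 2, nat_lit 4, nat_lit 1, nat_lit 3, nat_lit 4, nat_lit 0, nat_lit 1] else [nat_lit 3, nat_lit 4, nat_lit 0, nat_lit 3, nat_lit 0, nat_lit 1, nat_lit 0, nat_lit 4, nat_lit 1, nat_lit 0, nat_lit 4, nat_lit 3, nat_lit 1, nat_lit 4, nat_lit 2, nat_lit 1]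
def Wt_312_315 (j : ℕ) : List ℕ := bif Nat.blt j 313 then [nat_lit 2, nat_lit 4, nat_lit 1, nat_lit 3, nat_lit 4, nat_lit 0, nat_lit 1, nat_lit 4, nat_lit 0, nat_lit 1, nat_lit 0, nat_lit 3, nat_lit 0, nat_lit 4, nat_lit 3, nat_lit 1] else (Wt_313_315 j)
def Wt_309_315 (j : ℕ) : List ℕ := bif Nat.blt j 312 then (Wt_309_312 j) else (Wt_312_315 j)
def Wt_303_315 (j : ℕ) : List ℕ := bif Nat.blt j 309 then (Wt_303_309 j) else (Wt_309_315 j)
def Wt_292_315 (j : ℕ) : List ℕ := bif Nat.blt j 303 then (Wt_292_303 j) else (Wt_303_315 j)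
def Wt_270_315 (j : ℕ) : List ℕ := bif Nat.blt j 292 then (Wt_270_292 j) else (Wt_292_315 j)
def Wt_315_317 (j : ℕ) : List ℕ := bif Nat.blt j 316 then [nat_lit 63, nat_lit 2, nat_lit 3, nat_lit 4, nat_lit 2, nat_lit 1, nat_lit 0, nat_lit 2, nat_lit 1, nat_lit 4, nat_lit 3, nat_lit 1, nat_lit 4, nat_lit 1, nat_lit 3, nat_lit 0, nat_lit 3, nat_lit 0] else [nat_lit 63, nat_lit 4, nat_lit 1, nat_lit 3, nat_lit 4, nat_lit 1, nat_lit 2, nat_lit 0, nat_lit 1, nat_lit 2, nat_lit 4, nat_lit 3, nat_lit 2, nat_lit 0, nat_lit 3, nat_lit 0, nat_lit 3, nat_lit 1]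
def Wt_318_320 (j : ℕ) : List ℕ := bif Nat.blt j 319 then [nat_lit 3, nat_lit 0, nat_lit 1, nat_lit 0, nat_lit 4, nat_lit 1, nat_lit 0, nat_lit 4, nat_lit 3, nat_lit 1, nat_lit 4, nat_lit 2, nat_lit 1, nat_lit 3, nat_lit 4, nat_lit 0] else [nat_lit 2, nat_lit 4, nat_lit 3, nat_lit 2, nat_lit 0, nat_lit 3, nat_lit 0, nat_lit 3, nat_lit 1, nat_lit 4, nat_lit 1, nat_lit 3, nat_lit 4, nat_lit 1, nat_lit 2, nat_lit 0, nat_lit 1]
def Wt_317_320 (j : ℕ) : List ℕ := bif Nat.blt j 318 then [nat_lit 4, nat_lit 1, nat_lit 3, nat_lit 4, nat_lit 0, nat_lit 1, nat_lit 4, nat_lit 0, nat_lit 1, nat_lit 0, nat_lit 3, nat_lit 0, nat_lit 4, nat_lit 3, nat_lit 1, nat_lit 2] else (Wt_318_320 j)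
def Wt_315_320 (j : ℕ) : List ℕ := bif Nat.blt j 317 then (Wt_315_317 j) else (Wt_317_320 j)
def Wt_321_323 (j : ℕ) : List ℕ := bif Nat.blt j 322 then [nat_lit 63, nat_lit 3, nat_lit 0, nat_lit 2, nat_lit 3, nat_lit 4, nat_lit 2, nat_lit 1, nat_lit 0, nat_lit 2, nat_lit 1, nat_lit 4, nat_lit 3, nat_lit 1, nat_lit 4, nat_lit 1, nat_lit 3, nat_lit 0] else [nat_lit 0, nat_lit 4, nat_lit 1, nat_lit 0, nat_lit 4, nat_lit 3, nat_lit 1, nat_lit 4, nat_lit 2, nat_lit 1, nat_lit 3, nat_lit 4, nat_lit 0, nat_lit 3, nat_lit 0, nat_lit 1]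
def Wt_320_323 (j : ℕ) : List ℕ := bif Nat.blt j 321 then [nat_lit 63, nat_lit 1, nat_lit 4, nat_lit 1, nat_lit 3, nat_lit 4, nat_lit 1, nat_lit 2, nat_lit 0, nat_lit 1, nat_lit 2, nat_lit 4, nat_lit 3, nat_lit 2, nat_lit 0, nat_lit 3, nat_lit 0, nat_lit 3] else (Wt_321_323 j)
def Wt_324_326 (j : ℕ) : List ℕ := bif Nat.blt j 325 then [nat_lit 3, nat_lit 2, nat_lit 0, nat_lit 3, nat_lit 0, nat_lit 3, nat_lit 1, nat_lit 4, nat_lit 1, nat_lit 3, nat_lit 4, nat_lit 1, nat_lit 2, nat_lit 0, nat_lit 1, nat_lit 2, nat_lit 4] else [nat_lit 0, nat_lit 4, nat_lit 3, nat_lit 1, nat_lit 2, nat_lit 4, nat_lit 1, nat_lit 3, nat_lit 4, nat_lit 0, nat_lit 1, nat_lit 4, nat_lit 0, nat_lit 1, nat_lit 0, nat_lit 3]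
def Wt_323_326 (j : ℕ) : List ℕ := bif Nat.blt j 324 then [nat_lit 63, nat_lit 1, nat_lit 3, nat_lit 4, nat_lit 0, nat_lit 1, nat_lit 4, nat_lit 0, nat_lit 1, nat_lit 0, nat_lit 3, nat_lit 0, nat_lit 4, nat_lit 3, nat_lit 1, nat_lit 2, nat_lit 4] else (Wt_324_326 j)
def Wt_320_326 (j : ℕ) : List ℕ := bif Nat.blt j 323 then (Wt_320_323 j) else (Wt_323_326 j)
def Wt_315_326 (j : ℕ) : List ℕ := bif Nat.blt j 320 then (Wt_315_320 j) else (Wt_320_326 j)
def Wt_326_328 (j : ℕ) : List ℕ := bif Nat.blt j 327 then [nat_lit 1, nat_lit 4, nat_lit 0, nat_lit 1, nat_lit 0, nat_lit 3, nat_lit 0, nat_lit 4, nat_lit 3, nat_lit 1, nat_lit 2, nat_lit 4, nat_lit 1, nat_lit 3, nat_lit 4, nat_lit 0] else [nat_lit 63, nat_lit 4, nat_lit 1, nat_lit 3, nat_lit 4, nat_lit 0, nat_lit 1, nat_lit 4, nat_lit 0, nat_lit 1, nat_lit 0, nat_lit 3, nat_lit 0, nat_lit 4, nat_lit 3, nat_lit 1, nat_lit 2]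
def Wt_329_331 (j : ℕ) : List ℕ := bif Nat.blt j 330 then [nat_lit 63, nat_lit 1, nat_lit 0, nat_lit 4, nat_lit 1, nat_lit 0, nat_lit 4, nat_lit 3, nat_lit 1, nat_lit 4, nat_lit 2, nat_lit 1, nat_lit 3, nat_lit 4, nat_lit 0, nat_lit 3, nat_lit 0] else [nat_lit 63, nat_lit 0, nat_lit 3, nat_lit 0, nat_lit 1, nat_lit 0, nat_lit 4, nat_lit 1, nat_lit 0, nat_lit 4, nat_lit 3, nat_lit 1, nat_lit 4, nat_lit 2, nat_lit 1, nat_lit 3, nat_lit 4]
def Wt_328_331 (j : ℕ) : List ℕ := bif Nat.blt j 329 then [nat_lit 63, nat_lit 3, nat_lit 4, nat_lit 0, nat_lit 3, nat_lit 0, nat_lit 1, nat_lit 0, nat_lit 4, nat_lit 1, nat_lit 0, nat_lit 4, nat_lit 3, nat_lit 1, nat_lit 4, nat_lit 2, nat_lit 1] else (Wt_329_331 j)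
def Wt_326_331 (j : ℕ) : List ℕ := bif Nat.blt j 328 then (Wt_326_328 j) else (Wt_328_331 j)
def Wt_332_334 (j : ℕ) : List ℕ := bif Nat.blt j 333 then [nat_lit 1, nat_lit 2, nat_lit 0, nat_lit 1, nat_lit 2, nat_lit 4, nat_lit 3, nat_lit 2, nat_lit 0, nat_lit 3, nat_lit 0, nat_lit 3, nat_lit 1, nat_lit 4, nat_lit 1, nat_lit 3, nat_lit 4] else [nat_lit 1, nat_lit 4, nat_lit 3, nat_lit 1, nat_lit 4, nat_lit 1, nat_lit 3, nat_lit 0, nat_lit 3, nat_lit 0, nat_lit 2, nat_lit 3, nat_lit 4, nat_lit 2, nat_lit 1, nat_lit 0, nat_lit 2]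
def Wt_331_334 (j : ℕ) : List ℕ := bif Nat.blt j 332 then [nat_lit 3, nat_lit 0, nat_lit 2, nat_lit 3, nat_lit 4, nat_lit 2, nat_lit 1, nat_lit 0, nat_lit 2, nat_lit 1, nat_lit 4, nat_lit 3, nat_lit 1, nat_lit 4, nat_lit 1, nat_lit 3, nat_lit 0] else (Wt_332_334 j)
def Wt_335_337 (j : ℕ) : List ℕ := bif Nat.blt j 336 then [nat_lit 63, nat_lit 63, nat_lit 3, nat_lit 63, nat_lit 3] else [nat_lit 63, nat_lit 63, nat_lit 0, nat_lit 63, nat_lit 0]
def Wt_334_337 (j : ℕ) : List ℕ := bif Nat.blt j 335 then [nat_lit 0, nat_lit 3, nat_lit 1, nat_lit 4, nat_lit 1, nat_lit 3, nat_lit 4, nat_lit 1, nat_lit 2, nat_lit 0, nat_lit 1, nat_lit 2, nat_lit 4, nat_lit 3, nat_lit 2, nat_lit 0, nat_lit 3] else (Wt_335_337 j)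
def Wt_331_337 (j : ℕ) : List ℕ := bif Nat.blt j 334 then (Wt_331_334 j) else (Wt_334_337 j)
def Wt_326_337 (j : ℕ) : List ℕ := bif Nat.blt j 331 then (Wt_326_331 j) else (Wt_331_337 j)
def Wt_315_337 (j : ℕ) : List ℕ := bif Nat.blt j 326 then (Wt_315_326 j) else (Wt_326_337 j)
def Wt_337_339 (j : ℕ) : List ℕ := bif Nat.blt j 338 then [nat_lit 1, nat_lit 0, nat_lit 1, nat_lit 0, nat_lit 1, nat_lit 0, nat_lit 1, nat_lit 2, nat_lit 0, nat_lit 1, nat_lit 0, nat_lit 1, nat_lit 2, nat_lit 0, nat_lit 2, nat_lit 1, nat_lit 0, nat_lit 2, nat_lit 0] else [nat_lit 63, nat_lit 1, nat_lit 2, nat_lit 4, nat_lit 3, nat_lit 2, nat_lit 0, nat_lit 3, nat_lit 0, nat_lit 3, nat_lit 1, nat_lit 4, nat_lit 1, nat_lit 3, nat_lit 4, nat_lit 1, nat_lit 2, nat_lit 0]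
def Wt_340_342 (j : ℕ) : List ℕ := bif Nat.blt j 341 then [nat_lit 4, nat_lit 1, nat_lit 3, nat_lit 0, nat_lit 3, nat_lit 0, nat_lit 2, nat_lit 3, nat_lit 4, nat_lit 2, nat_lit 1, nat_lit 0, nat_lit 2, nat_lit 1, nat_lit 4, nat_lit 3, nat_lit 1] else [nat_lit 63, nat_lit 0, nat_lit 4, nat_lit 3, nat_lit 1, nat_lit 2, nat_lit 4, nat_lit 1, nat_lit 3, nat_lit 4, nat_lit 0, nat_lit 1, nat_lit 4, nat_lit 0, nat_lit 1, nat_lit 0, nat_lit 3]
def Wt_339_342 (j : ℕ) : List ℕ := bif Nat.blt j 340 then [nat_lit 2, nat_lit 1, nat_lit 0, nat_lit 1, nat_lit 2, nat_lit 0, nat_lit 4, nat_lit 0, nat_lit 3, nat_lit 1, nat_lit 3, nat_lit 0, nat_lit 4, nat_lit 0] else (Wt_340_342 j)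
def Wt_337_342 (j : ℕ) : List ℕ := bif Nat.blt j 339 then (Wt_337_339 j) else (Wt_339_342 j)
def Wt_343_345 (j : ℕ) : List ℕ := bif Nat.blt j 344 then [nat_lit 63, nat_lit 0, nat_lit 2, nat_lit 1, nat_lit 4, nat_lit 3, nat_lit 1, nat_lit 4, nat_lit 1, nat_lit 3, nat_lit 0, nat_lit 3, nat_lit 0, nat_lit 2, nat_lit 3, nat_lit 4, nat_lit 2, nat_lit 1] else [nat_lit 2, nat_lit 3, nat_lit 4, nat_lit 2, nat_lit 1, nat_lit 0, nat_lit 2, nat_lit 1, nat_lit 4, nat_lit 3, nat_lit 1, nat_lit 4, nat_lit 1, nat_lit 3, nat_lit 0, nat_lit 3, nat_lit 0]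
def Wt_342_345 (j : ℕ) : List ℕ := bif Nat.blt j 343 then [nat_lit 63, nat_lit 0, nat_lit 2, nat_lit 3, nat_lit 4, nat_lit 2, nat_lit 1, nat_lit 0, nat_lit 2, nat_lit 1, nat_lit 4, nat_lit 3, nat_lit 1, nat_lit 4, nat_lit 1, nat_lit 3, nat_lit 0, nat_lit 3] else (Wt_343_345 j)
def Wt_346_348 (j : ℕ) : List ℕ := bif Nat.blt j 347 then [nat_lit 63, nat_lit 0, nat_lit 3, nat_lit 1, nat_lit 4, nat_lit 1, nat_lit 3, nat_lit 4, nat_lit 1, nat_lit 2, nat_lit 0, nat_lit 1, nat_lit 2, nat_lit 4, nat_lit 3, nat_lit 2, nat_lit 0, nat_lit 3] else [nat_lit 63, nat_lit 3, nat_lit 0, nat_lit 3, nat_lit 1, nat_lit 4, nat_lit 1, nat_lit 3, nat_lit 4, nat_lit 1, nat_lit 2, nat_lit 0, nat_lit 1, nat_lit 2, nat_lit 4, nat_lit 3, nat_lit 2, nat_lit 0]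
def Wt_345_348 (j : ℕ) : List ℕ := bif Nat.blt j 346 then [nat_lit 2, nat_lit 1, nat_lit 0, nat_lit 2, nat_lit 1, nat_lit 4, nat_lit 3, nat_lit 1, nat_lit 4, nat_lit 1, nat_lit 3, nat_lit 0, nat_lit 3, nat_lit 0, nat_lit 2, nat_lit 3, nat_lit 4] else (Wt_346_348 j)
def Wt_342_348 (j : ℕ) : List ℕ := bif Nat.blt j 345 then (Wt_342_345 j) else (Wt_345_348 j)
def Wt_337_348 (j : ℕ) : List ℕ := bif Nat.blt j 342 then (Wt_337_342 j) else (Wt_342_348 j)
def Wt_349_351 (j : ℕ) : List ℕ := bif Nat.blt j 350 then [nat_lit 4, nat_lit 3, nat_lit 2, nat_lit 0, nat_lit 3, nat_lit 0, nat_lit 3, nat_lit 1, nat_lit 4, nat_lit 1, nat_lit 3, nat_lit 4, nat_lit 1, nat_lit 2, nat_lit 0, nat_lit 1, nat_lit 2] else [nat_lit 4, nat_lit 63, nat_lit 4, nat_lit 63]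
def Wt_348_351 (j : ℕ) : List ℕ := bif Nat.blt j 349 then [nat_lit 0, nat_lit 3, nat_lit 0, nat_lit 3, nat_lit 1, nat_lit 4, nat_lit 1, nat_lit 3, nat_lit 4, nat_lit 1, nat_lit 2, nat_lit 0, nat_lit 1, nat_lit 2, nat_lit 4, nat_lit 3, nat_lit 2] else (Wt_349_351 j)
def Wt_352_354 (j : ℕ) : List ℕ := bif Nat.blt j 353 then [nat_lit 0, nat_lit 2, nat_lit 1, nat_lit 0, nat_lit 1, nat_lit 2, nat_lit 0, nat_lit 4, nat_lit 0, nat_lit 3, nat_lit 1, nat_lit 3, nat_lit 0, nat_lit 4] else [nat_lit 63, nat_lit 4, nat_lit 3, nat_lit 1, nat_lit 2, nat_lit 4, nat_lit 1, nat_lit 3, nat_lit 4, nat_lit 0, nat_lit 1, nat_lit 4, nat_lit 0, nat_lit 1, nat_lit 0, nat_lit 3, nat_lit 0]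
def Wt_351_354 (j : ℕ) : List ℕ := bif Nat.blt j 352 then [nat_lit 63, nat_lit 63, nat_lit 1, nat_lit 63, nat_lit 1] else (Wt_352_354 j)
def Wt_348_354 (j : ℕ) : List ℕ := bif Nat.blt j 351 then (Wt_348_351 j) else (Wt_351_354 j)
def Wt_355_357 (j : ℕ) : List ℕ := bif Nat.blt j 356 then [nat_lit 0, nat_lit 4, nat_lit 0, nat_lit 3, nat_lit 1, nat_lit 3, nat_lit 0, nat_lit 4, nat_lit 0, nat_lit 2, nat_lit 1, nat_lit 0, nat_lit 1, nat_lit 2] else [nat_lit 4, nat_lit 0, nat_lit 2, nat_lit 1, nat_lit 0, nat_lit 1, nat_lit 2, nat_lit 0, nat_lit 4, nat_lit 0, nat_lit 3, nat_lit 1, nat_lit 3, nat_lit 0]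
def Wt_354_357 (j : ℕ) : List ℕ := bif Nat.blt j 355 then [nat_lit 4, nat_lit 0, nat_lit 3, nat_lit 1, nat_lit 3, nat_lit 0, nat_lit 4, nat_lit 0, nat_lit 2, nat_lit 1, nat_lit 0, nat_lit 1, nat_lit 2, nat_lit 0] else (Wt_355_357 j)
def Wt_358_360 (j : ℕ) : List ℕ := bif Nat.blt j 359 then [nat_lit 0, nat_lit 4, nat_lit 0, nat_lit 2, nat_lit 1, nat_lit 0, nat_lit 1, nat_lit 2, nat_lit 0, nat_lit 4, nat_lit 0, nat_lit 3, nat_lit 1, nat_lit 3] else [nat_lit 0, nat_lit 2, nat_lit 3, nat_lit 4, nat_lit 2, nat_lit 1, nat_lit 0, nat_lit 2, nat_lit 1, nat_lit 4, nat_lit 3, nat_lit 1, nat_lit 4, nat_lit 1, nat_lit 3, nat_lit 0, nat_lit 3]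
def Wt_357_360 (j : ℕ) : List ℕ := bif Nat.blt j 358 then [nat_lit 3, nat_lit 63, nat_lit 3, nat_lit 63] else (Wt_358_360 j)
def Wt_354_360 (j : ℕ) : List ℕ := bif Nat.blt j 357 then (Wt_354_357 j) else (Wt_357_360 j)
def Wt_348_360 (j : ℕ) : List ℕ := bif Nat.blt j 354 then (Wt_348_354 j) else (Wt_354_360 j)
def Wt_337_360 (j : ℕ) : List ℕ := bif Nat.blt j 348 then (Wt_337_348 j) else (Wt_348_360 j)
def Wt_315_360 (j : ℕ) : List ℕ := bif Nat.blt j 337 then (Wt_315_337 j) else (Wt_337_360 j)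
def Wt_270_360 (j : ℕ) : List ℕ := bif Nat.blt j 315 then (Wt_270_315 j) else (Wt_315_360 j)
def Wt_180_360 (j : ℕ) : List ℕ := bif Nat.blt j 270 then (Wt_180_270 j) else (Wt_270_360 j)
def Wt_0_360 (j : ℕ) : List ℕ := bif Nat.blt j 180 then (Wt_0_180 j) else (Wt_180_360 j)
def Wt (j : ℕ) : List ℕ := (Wt_0_360 j)
def W (j : ℕ) : List ℕ := bif Nat.blt j 360 then Wt j else []
theorem W_ge (j : ℕ) (h : 360 ≤ j) : W j = [] := by
  unfold W
  rw [blt_false_of_le h]
  rfl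
def Hl : List ℕ := [nat_lit 0, nat_lit 1, nat_lit 2, nat_lit 3]
def isH (y : ℕ) : Bool := List.elem y Hl
def Rb : List (List ℕ) := [[nat_lit 0, nat_lit 0],
  [nat_lit 1, nat_lit 1],
  [nat_lit 1, nat_lit 0, nat_lit 1, nat_lit 0, nat_lit 1, nat_lit 0, nat_lit 1, nat_lit 0, nat_lit 1, nat_lit 0, nat_lit 1, nat_lit 0, nat_lit 1, nat_lit 0, nat_lit 1, nat_lit 0, nat_lit 1, nat_lit 0, nat_lit 1, nat_lit 0, nat_lit 1, nat_lit 0, nat_lit 1, nat_lit 0, nat_lit 1, nat_lit 0, nat_lit 1, nat_lit 0, nat_lit 1, nat_lit 0, nat_lit 1, nat_lit 0, nat_lit 1, nat_lit 0],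
  [nat_lit 2, nat_lit 2],
  [nat_lit 2, nat_lit 0, nat_lit 2, nat_lit 0, nat_lit 2, nat_lit 0, nat_lit 2, nat_lit 0, nat_lit 2, nat_lit 0, nat_lit 2, nat_lit 0, nat_lit 2, nat_lit 0, nat_lit 2, nat_lit 0, nat_lit 2, nat_lit 0, nat_lit 2, nat_lit 0, nat_lit 2, nat_lit 0, nat_lit 2, nat_lit 0, nat_lit 2, nat_lit 0, nat_lit 2, nat_lit 0, nat_lit 2, nat_lit 0, nat_lit 2, nat_lit 0, nat_lit 2, nat_lit 0],
  [nat_lit 2, nat_lit 0, nat_lit 1, nat_lit 2, nat_lit 0, nat_lit 2, nat_lit 1, nat_lit 0, nat_lit 1, nat_lit 0, nat_lit 2, nat_lit 1, nat_lit 0, nat_lit 1, nat_lit 0, nat_lit 1, nat_lit 0, nat_lit 1, nat_lit 0],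
  [nat_lit 3, nat_lit 3],
  [nat_lit 3, nat_lit 1, nat_lit 2, nat_lit 0, nat_lit 1, nat_lit 3, nat_lit 1, nat_lit 2, nat_lit 0, nat_lit 1, nat_lit 0],
  [nat_lit 4, nat_lit 4],
  [nat_lit 3, nat_lit 1, nat_lit 3, nat_lit 1, nat_lit 3, nat_lit 1, nat_lit 3, nat_lit 1],
  [nat_lit 2, nat_lit 4, nat_lit 0, nat_lit 3, nat_lit 0, nat_lit 3, nat_lit 2, nat_lit 4, nat_lit 0, nat_lit 3, nat_lit 0, nat_lit 3],
  [nat_lit 1, nat_lit 3, nat_lit 0, nat_lit 4, nat_lit 0, nat_lit 3, nat_lit 1, nat_lit 3, nat_lit 0, nat_lit 4, nat_lit 0, nat_lit 3],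
  [nat_lit 2, nat_lit 4, nat_lit 2, nat_lit 3, nat_lit 2, nat_lit 4, nat_lit 2, nat_lit 3, nat_lit 2, nat_lit 4, nat_lit 2, nat_lit 3],
  [nat_lit 0, nat_lit 1, nat_lit 2, nat_lit 0, nat_lit 4, nat_lit 0, nat_lit 3, nat_lit 1, nat_lit 3, nat_lit 0, nat_lit 4, nat_lit 0, nat_lit 2, nat_lit 1],
  [nat_lit 0, nat_lit 4, nat_lit 1, nat_lit 0, nat_lit 4, nat_lit 3, nat_lit 1, nat_lit 4, nat_lit 2, nat_lit 1, nat_lit 3, nat_lit 4, nat_lit 0, nat_lit 3, nat_lit 0, nat_lit 1],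
  [nat_lit 2, nat_lit 1, nat_lit 4, nat_lit 3, nat_lit 1, nat_lit 4, nat_lit 1, nat_lit 3, nat_lit 0, nat_lit 3, nat_lit 0, nat_lit 2, nat_lit 3, nat_lit 4, nat_lit 2, nat_lit 1, nat_lit 0],
  []]
def spT_1_3 (j : ℕ) : ℕ := bif Nat.blt j 2 then nat_lit 0x2200a0000c00b0001400b0001e00b0000a00a0000800a000020040000600e0000a00b0002000a00002012000020040001200e0000e00a0001001f0000c01c0001e01c0001a00b0000401c0000000f00000016000000120001401f0001400f0000c01a0000000b0001801c0001801d0001201c0000601c0000c00f000060160001600a0000400a0001400f0002200b0002000a0000201f0000a00a0001000a0000600f0000800b0000200f0000600a0000e00b0000800a0001e00b0001000b0000e01c0000401a0000e00b0002000b0002400a0000001a0000800f00000010000080160001201a0000600e0001000b0000e00e0000c00f0000601a0000a016 else nat_lit 0x180001600a0001800b0001600b00000006000000040001a00a0001800b0000800e000000000001c00b0000800b0000a0160001001a0001400a000000150001800a0000200a0001000a0000a00e0001200b0000200a0001000e0000c00e0000e00a0002400a000000180002200a0000600b000000020001000f0001200a0000200b0001e00a0001600b000000100000000b0001a00a0002200b0002000b0001200a0000800f0000200b0002400b0000a0140001200e0000400b0000c00a000060150001400e0000a00f000000020001c00a0001800a000020180002400b0000400f0000600b0000400a0001200f0000e00e0000e00f0001200b0000c00b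
def spT_0_3 (j : ℕ) : ℕ := bif Nat.blt j 1 then nat_lit 0x60140000c00a0000200e0000000c000020160000e01a0000601a00002018000000150000200e0000a00e0000000e0001000f0000600a0001c00b0000e00f0000400e0000000c000040160001001a0000400f000060180000201400004016000000140000001600008014000000000000401a0001a01e0000600f000080150000200f000000020001a00b0000000600000006000000020000001a00006016000020120000601d000000000000201a0000c01d0000a0140001201e0000000f0000a00f0001200f0000000e0001000e0000400e0001e01d0000800e0000c00e0001400e0001401d0000001f000040180000201a000000120000401500002016 else (spT_1_3 j)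
def spT_4_6 (j : ℕ) : ℕ := bif Nat.blt j 5 then nat_lit 0x601f0001c01c0001201d0001601f0001601e0001601c0001c01d0001001d0000801f0000201e0001c01c0000c01f0000601f0001801f0001a01e0001401a0000a01d0001001c0000401f0000401d0000a01a0001a01a0000a01c0001201a0000c01d0000001e0000001d0000a01d0001601f0000201d0000001f0000e01a0000a0150001801d0000601e0000401d00008016000000200000000c0000801c0000001d0000001e0001601c0000c01f0000201c0000001c0001e01f0001201c000000140000001c0001a01d0000e01e0000201e000020140001801e0000401f0000601c0001c01e0001201f0001001c000020150000601e0001601a0000e01d else nat_lit 0x1601e0001401a0000000c0001601a0000801a0000a01a0000801d0001801a00000002000000100000801f0000e01f0000e01f0001001f0001e01e0001801e0002001e0001401e0000601d0000c01e0001a01a0000201f0000400b000000000000000c0001201f0000401e0002001f0001401e0001801c0001e01c0001401c0001001d0001c01d0000801d0000a01f0001201d0000201c0001201e0001401f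
def spT_3_6 (j : ℕ) : ℕ := bif Nat.blt j 4 then nat_lit 0x1601d0001a01c0000c01e0001001e0000c01c0001601d0000801c0001401c0001401d0000401c0000a01e0001e01d0000801e0001c01e0000401e000040140001a01f0000201d0001801f0001e01e0000e01d0001a01d0000c01a000080150001e01f0000801e0001a01c0000a01e0000e01e000080140000a01f0001c01f0000a0150000a01c0002001f0000000600002008000060180001001e000060140001c01f00004018000040140001e00a000000000001a01f0000000a0001400a0002001e0001801a000060150000000800000004000020080000801a00004015000000100000000a0000a00b0000e01c000000080001c00a0001400b00002015 else (spT_4_6 j)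
def spT_0_6 (j : ℕ) : ℕ := bif Nat.blt j 3 then (spT_0_3 j) else (spT_3_6 j)
def spT (j : ℕ) : ℕ := (spT_0_6 j)
def sp (j : ℕ) : ℕ := Nat.land (Nat.shiftRight (spT (Nat.shiftRight j 6)) (Nat.mul (Nat.land j 63) 32)) 4294967295
theorem Eo_lt (r : ℕ) : Eo r < 18014398509481984 := land54_lt _
def cT_1_3 (j : ℕ) : ℕ := bif Nat.blt j 2 then nat_lit 0x1050001040001030001020001010001000000ff0000fe0000fd0000fc0000fb0000fa0000f80000f70000f60000f50000f40000f30000f20000f10000f00000ef0000ee0000ed0000ec0000eb0000e90000e70000e60000e40000e30000e20000e10000e00000df0000de0000dd0000dc0000db0000da0000d90000d80000d70000d60000d50000d40000d30000d20000d10000d00000cf0000ce0000cd0000cc0000cb0000ca0000c90000c80000c70000c60000c50000c40000c30000c20000c10000c00000bf0000be0000bd0000bc0000bb0000ba0000b90000b80000b70000b60000b50000b40000b30000b20000b10000b00000af0000ae0000ad0000ac0000ab0000aa0000a90000a80000a70000a60000a50000a40000a30000a10000a000009f00009e00009d00009c00009b00009a00009900009800009700009600009500009400009300009200009100009000008f00008e00008d00008c00008b00008a000089000088000087000086000085000084000083000082000081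 else nat_lit 0x19200019100019000018f00018e00018d00018c00018a00018900018800018600018500018400018300018200018100018000017f00017e00017d00017c00017a00017900017800017700017600017500017400017300017200017100017000016f00016e00016d00016c00016b00016a00016900016800016700016600016500016400016300016200016000015f00015e00015d00015c00015a00015900015800015700015500015400015300015200015100015000014f00014e00014d00014c00014b00014a00014800014700014600014500014400014300014200014000013f00013e00013d00013c00013b00013a00013900013800013700013600013400013300013200013000012f00012e00012d00012c00012b00012a00012900012800012700012500012400012300012200012000011f00011e00011d00011b00011a00011900011800011700011600011500011400011300011200011100011000010f00010e00010d00010c00010b00010a000109000108000107000106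
def cT_0_3 (j : ℕ) : ℕ := bif Nat.blt j 1 then nat_lit 0x7f00007e00007d00007c00007b00007a00007900007800007700007600007500007400007300007200007100007000006f00006e00006d00006c00006b00006a00006900006800006700006600006500006400006300006200006100006000005f00005e00005d00005c00005b00005a00005900005800005700005600005500005400005300005200005100005000004f00004e00004d00004c00004b00004a00004900004800004700004600004500004400004300004200004100004000003f00003e00003d00003c00003b00003a00003900003800003700003600003500003400003300003200003100003000002f00002e00002d00002c00002b00002a00002900002800002700002600002500002400002300002200002100002000001f00001e00001d00001c00001b00001a00001900001800001700001600001500001400001300001200001100001000000f00000e00000d00000c00000b00000a000009000008000007000006000005000004000003000002000001000000 else (cT_1_3 j)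
def cT_4_6 (j : ℕ) : ℕ := bif Nat.blt j 5 then nat_lit 0x2a80002a70002a60002a50002a40002a30002a20002a10002a000029e00029d00029b00029a00029900029800029700029600029400029300029200029100029000028f00028e00028d00028c00028b00028a00028900028800028700028600028500028400028300028200028100028000027f00027e00027d00027c00027b00027700027600027400027300027200027100027000026f00026d00026c00026b00026a00026900026800026700026600026500026400026300026200026100026000025f00025e00025d00025c00025b00025a00025900025800025700025600025500025400025300025200025100025000024e00024d00024c00024b00024a00024900024800024700024600024500024400024300024200024100024000023e00023c00023b00023a00023900023800023700023600023500023400023300023200023000022f00022e00022d00022c00022b00022900022800022700022600022400022300022200022100022000021f00021e00021c00021b00021a else nat_lit 0x34100034000033f00033e00033c00033b00033a00033900033700033600033400033300033100032f00032e00032d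00032c00032a00032900032700032600032500032400032300032200032100032000031f00031e00031d00031b00031a00031800031700031600031500031400031300031200031000030f00030e00030d00030c00030b00030a0003090003070003060003050003040003030003020003010003000002ff0002fe0002fd0002fc0002fb0002fa0002f90002f70002f60002f40002f30002f20002f10002f00002ef0002ee0002ec0002eb0002ea0002e90002e60002e50002e40002e30002e20002e10002e00002df0002de0002dd0002dc0002db0002d90002d80002d60002d50002d40002d30002d20002d10002d00002ce0002cd0002cb0002ca0002c80002c70002c60002c50002c40002c30002c20002c10002c00002bf0002be0002bd0002bb0002ba0002b90002b80002b60002b40002b30002b20002b10002b00002af0002ae0002ad0002ac0002aa0002a9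
def cT_3_6 (j : ℕ) : ℕ := bif Nat.blt j 4 then nat_lit 0x21900021800021700021600021500021400021300021200021100020f00020e00020d00020c00020b00020a0002090002080002070002060002050002040002030002020002010002000001ff0001fe0001fd0001fc0001fb0001fa0001f90001f80001f70001f50001f40001f30001f20001f10001f00001ef0001ee0001ec0001eb0001ea0001e90001e80001e70001e60001e50001e40001e30001e20001e10001e00001df0001de0001dd0001dc0001db0001da0001d90001d80001d70001d60001d50001d40001d30001d20001d10001d00001cf0001ce0001cd0001cc0001cb0001ca0001c90001c80001c70001c60001c50001c40001c30001c20001c10001c00001bf0001bd0001bc0001ba0001b90001b80001b70001b60001b50001b40001b30001b20001b10001b00001af0001ae0001ad0001ac0001ab0001aa0001a90001a80001a70001a60001a50001a30001a20001a100019f00019e00019d00019c00019b00019a000199000198000197000196000195000194000193 else (cT_4_6 j)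
def cT_0_6 (j : ℕ) : ℕ := bif Nat.blt j 3 then (cT_0_3 j) else (cT_3_6 j)
def cT_7_9 (j : ℕ) : ℕ := bif Nat.blt j 8 then nat_lit 0x48300048200048100047e00047d00047c00047b00047a00047900047800047700047500047400047100047000046f00046e00046d00046c00046b00046900046800046700046500046400046300046200046100046000045f00045e00045b00045a00045800045700045600045400045100045000044d00044b00044a00044900044700044600044500044400044200044100044000043f00043d00043c00043a00043900043800043700043600043400043300043100043000042f00042e00042d00042c00042b00042a00042900042800042700042600042500042400042300042200042000041f00041e00041c00041b00041a00041900041800041600041500041400041300041200041000040f00040e00040d00040c00040b00040a0004090004080004070004060004050004030004020004010004000003ff0003fd0003fc0003fb0003fa0003f90003f80003f70003f60003f50003f40003f20003f10003f00003ef0003ee0003ed0003ec0003eb0003ea0003e80003e60003e5 else nat_lit 0x5180005170005160005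1400051300051200051100051000050f00050e00050d00050c00050b00050a0005090005080005070005060005050005040005030005020005010005000004ff0004fe0004fd0004fc0004fb0004fa0004f90004f80004f70004f60004f50004f40004f00004ef0004ed0004ec0004ea0004e90004e80004e70004e60004e50004e30004e20004e10004e00004df0004de0004dd0004db0004d80004d70004d50004d40004d30004d10004d00004cf0004ce0004cd0004cc0004cb0004ca0004c90004c80004c70004c60004c50004c40004c30004c20004c10004c00004bf0004be0004bd0004bc0004bb0004ba0004b90004b80004b70004b60004b50004b40004b30004b20004b00004af0004ae0004ad0004ac0004ab0004aa0004a70004a60004a40004a30004a20004a10004a000049e00049d00049a00049900049800049700049600049500049400049300049200049000048f00048e00048d00048c00048b00048a000489000488000487000486000484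
def cT_6_9 (j : ℕ) : ℕ := bif Nat.blt j 7 then nat_lit 0x3e40003e30003e20003e10003e00003df0003de0003dd0003dc0003db0003d90003d80003d70003d60003d50003d40003d30003d20003d10003d00003cf0003ce0003cd0003cc0003cb0003c70003c60003c50003c40003c20003c00003bf0003be0003bd0003bb0003ba0003b90003b80003b70003b60003b50003b30003b20003b10003b00003ae0003ad0003ab0003a90003a80003a60003a50003a40003a30003a20003a000039f00039e00039d00039c00039b00039a00039800039700039600039200039100039000038d00038900038800038700038600038500038400038300038200037e00037d00037c00037b00037a00037900037700037600037500037400037300037200037000036f00036e00036d00036c00036b00036a00036900036800036700036600036400036300036000035f00035d00035c00035b00035a00035900035800035700035600035500035200035000034f00034e00034d00034c00034b00034a000349000348000346000345000344000343000342 else (cT_7_9 j)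
def cT_10_12 (j : ℕ) : ℕ := bif Nat.blt j 11 then nat_lit 0x67100067000066f00066e00066d00066c00066a00066900066800066700066600066500066400066300066100066000065f00065e00065d00065c00065b00065a00065900065700065600065400065200065100065000064f00064e00064d00064c00064a00064900064700064600064200064100064000063e00063d00063c00063b00063a00063900063800063700063600063500063400063300063200063100063000062e00062d00062c00062b00062a00062700062600062500062400062200062100062000061e00061d00061c00061a00061800061600061500061400061300061200061000060f00060e00060c00060b00060a0006080006070006060006040006030006020006010006000005ff0005fe0005fd0005fb0005f90005f80005f70005f40005f10005f00005ef0005ee0005ed0005ec0005eb0005ea0005e90005e50005e40005e30005e20005e10005e00005df0005de0005dd0005dc0005db0005d70005d60005d50005d40005d30005d20005d10005d00005cf else nat_lit 0x71000070f00070e00070d00070c00070b00070a000709000708000706000705000704000703000702000701000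7000006ff0006fe0006fd0006fc0006fb0006fa0006f90006f80006f70006f60006f40006f00006ee0006ed0006ec0006eb0006ea0006e90006e80006e70006e60006e40006e30006e20006e10006e00006dd0006dc0006db0006da0006d90006d80006d70006d60006d50006d40006d30006d20006d10006cf0006ce0006cd0006cc0006cb0006ca0006c90006c80006c70006c60006c50006c40006c30006c20006c10006c00006bf0006be0006bd0006bb0006ba0006b90006b60006b50006b40006b10006b00006af0006ae0006ac0006aa0006a90006a80006a50006a40006a30006a20006a100069f00069e00069a00069900069800069700069400069300069200069100069000068e00068d00068c00068b00068a00068900068800068700068500068400068200068100068000067f00067e00067d00067c00067b00067a000679000678000674000673000672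
def cT_9_12 (j : ℕ) : ℕ := bif Nat.blt j 10 then nat_lit 0x5ce0005cd0005cb0005c90005c70005c60005c40005c30005c10005c00005bf0005ba0005b60005b50005b30005b20005b00005af0005ae0005aa0005a90005a70005a60005a50005a40005a30005a000059f00059e00059c00059a00059900059800059600059500059400059300059100058f00058b00058a00058800058700058600058500058300058200058100057f00057e00057b00057a00057900057700057600057500057400057300057200057100057000056f00056e00056d00056c00056a00056900056800056700056500056400056300056200056100055e00055c00055a00055900055800055700055600055400055200055100054f00054e00054d00054b00054a00054800054400054300054200054100054000053e00053d00053c00053b00053a00053900053800053700053600053500053300053200053100052f00052e00052d00052c00052b00052a00052900052800052700052400052300052200052100052000051f00051e00051d00051b00051a000519 else (cT_10_12 j)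
def cT_6_12 (j : ℕ) : ℕ := bif Nat.blt j 9 then (cT_6_9 j) else (cT_9_12 j)
def cT_0_12 (j : ℕ) : ℕ := bif Nat.blt j 6 then (cT_0_6 j) else (cT_6_12 j)
def cT_13_15 (j : ℕ) : ℕ := bif Nat.blt j 14 then nat_lit 0x86800086700086600086500086400086300086200086100086000085f00085e00085d00085c00085b00085a00085900085800085700085600085400085100085000084f00084c00084b00084a00084900084800084700084500084300084200084100083e00083d00083a00083900083700083500083200083100083000082f00082d00082c00082a00082900082800082700082200082100082000081f00081e00081d00081b00081a00081900081700081500081300081100081000080e00080c00080b00080a0008090008080008060008050008040008030008020007ff0007fd0007fc0007fb0007fa0007f90007f80007f70007f60007f50007f40007f10007f00007ee0007ed0007ec0007eb0007ea0007e80007e70007e40007e30007e20007e10007e00007de0007dd0007d90007d70007d60007d50007d30007d20007d10007d00007cf0007ce0007cc0007cb0007ca0007c90007c80007c70007c60007c50007c40007c20007c10007c00007bf0007be0007bd0007bc0007bb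 else nat_lit 0x93100093000092e00092d00092c00092b00092a00092900092800092600092500092200091f00091c00091b00091a00091800091700091600091500091400091300091200091100091000090f00090e00090d00090c00090b00090a0009080009050009040009030009020009000008fe0008fd0008fc0008f90008f80008f50008f20008f10008ee0008eb0008ea0008e90008e70008e60008e50008e40008e30008e20008e00008df0008de0008dd0008dc0008db0008da0008d80008d40008d30008d20008d10008d00008ce0008cd0008c90008c70008c60008c50008c40008c30008c20008c10008bf0008bc0008bb0008ba0008b90008b80008b70008b50008b40008b30008b20008b10008b00008ae0008ad0008ab0008a90008a70008a60008a50008a30008a000089e00089d00089c00089a00089800089500089400089200089100089000088b00088a00088900088000087d00087a00087900087800087600087500087300087200087100086f00086e00086d00086c00086a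
def cT_12_15 (j : ℕ) : ℕ := bif Nat.blt j 13 then nat_lit 0x7ba0007b90007b80007b70007b60007b50007b40007b30007b10007b00007af0007ae0007ad0007ac0007ab0007aa0007a60007a40007a10007a000079f00079e00079d00079c00079b00079a00079700079600079500079400079200079100078f00078e00078d00078c00078b00078a00078800078700078600078500078400078200078000077f00077e00077d00077c00077900077800077700077600077500077300077200076f00076b00076900076800076700076600076400076300076200076100075d00075c00075b00075a00075900075800075700075600075500075400075300075100075000074f00074e00074c00074b00074a00074900074800074700074500074400074300074200074100074000073f00073d00073c00073b00073a00073900073700073500073400073300073200073000072f00072e00072d00072a00072700072600072500072400072300072200072100072000071f00071c00071b00071a000719000718000717000716000713000712000711 else (cT_13_15 j)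
def cT_16_18 (j : ℕ) : ℕ := bif Nat.blt j 17 then nat_lit 0xab5000ab3000ab2000ab1000ab0000aaf000aae000aad000aac000aaa000aa3000aa1000aa0000a9f000a9d000a9b000a9a000a99000a97000a96000a92000a91000a8e000a8d000a8c000a8b000a8a000a89000a88000a84000a83000a82000a81000a7f000a7e000a7d000a7c000a78000a77000a76000a74000a73000a72000a71000a70000a6f000a6e000a6d000a6a000a69000a68000a67000a66000a65000a61000a5d000a5b000a5a000a59000a58000a57000a56000a55000a53000a52000a4f000a4d000a4c000a4b000a4a000a49000a48000a46000a45000a42000a41000a3f000a3e000a3d000a3c000a3b000a3a000a39000a38000a37000a36000a34000a33000a32000a31000a2f000a2e000a2d000a2c000a2b000a2a000a29000a25000a23000a22000a20000a1f000a1e000a19000a18000a16000a15000a14000a13000a12000a11000a10000a0f000a0b000a09000a08000a07000a04000a02000a01000a000009ff0009fe0009fd0009f90009f80009f70009f4 else nat_lit 0xb79000b78000b77000b75000b74000b73000b72000b71000b70000b6e000b6d000b6c000b6b000b6a000b68000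b67000b66000b65000b64000b61000b5e000b5d000b5a000b58000b56000b55000b53000b51000b50000b4f000b4d000b4c000b4b000b4a000b49000b48000b47000b46000b45000b44000b41000b3e000b3d000b3c000b3a000b39000b38000b37000b31000b30000b2f000b2e000b2a000b28000b27000b26000b25000b24000b23000b22000b21000b20000b1f000b1e000b1d000b1c000b1b000b1a000b19000b17000b15000b14000b12000b10000b0e000b0c000b0a000b08000b07000b06000b01000b00000afe000afd000afb000afa000af9000af8000af6000af4000af3000af2000af1000af0000aef000aee000aed000aea000ae9000ae8000ae7000ae6000ae2000ae0000ade000adc000ada000ad9000ad7000ad6000ad4000ad3000ad2000ace000acd000acc000aca000ac9000ac8000ac7000ac4000ac1000ac0000abe000abd000abc000abb000ab8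
def cT_15_18 (j : ℕ) : ℕ := bif Nat.blt j 16 then nat_lit 0x9f30009ed0009ec0009eb0009e90009e80009e70009e60009e50009e40009e30009e20009e10009df0009dd0009da0009d90009d80009d70009d60009d40009d30009d20009d10009d00009cf0009ce0009cd0009cc0009ca0009c80009c70009c50009c40009c10009c00009bf0009be0009bd0009bc0009bb0009ba0009b90009b80009b70009b50009b40009b20009b10009b00009af0009ae0009ad0009ac0009ab0009aa0009a90009a70009a40009a30009a10009a000099f00099e00099d00099c00099b00099a00099900099800099700099600099500099100099000098f00098e00098c00098b00098a00098900098800098700098400098300098200098100098000097f00097e00097c00097b00097a00097900097700097600097400097100096500096400096200096000095f00095b00095a00095900095800095600095500095300095200095000094d00094a00094900094800094700094600094500093f00093e00093b00093a000939000938000936000935000932 else (cT_16_18 j)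
def cT_12_18 (j : ℕ) : ℕ := bif Nat.blt j 15 then (cT_12_15 j) else (cT_15_18 j)
def cT_19_21 (j : ℕ) : ℕ := bif Nat.blt j 20 then nat_lit 0xd31000d30000d2f000d2d000d2c000d2a000d29000d27000d25000d1e000d1d000d1a000d19000d18000d17000d16000d15000d13000d12000d11000d10000d0f000d0e000d09000d05000d04000d03000d02000d01000d00000cfd000cfc000cfa000cf9000cf7000cf5000cf4000cf3000cf2000cf0000cee000ced000ceb000cea000ce9000ce8000ce7000ce6000ce5000ce4000ce3000ce1000cde000cdd000cdc000cd9000cd8000cd7000cd5000cd4000cd2000cd1000ccf000cce000ccd000cc7000cc6000cc5000cc0000cbf000cbe000cbd000cbc000cbb000cb5000cb1000caf000cad000caa000ca9000ca5000ca4000ca3000ca2000ca1000c9f000c9e000c9d000c9b000c9a000c99000c98000c97000c96000c95000c94000c93000c91000c90000c8f000c8d000c85000c82000c7e000c7c000c7b000c7a000c79000c78000c77000c75000c74000c71000c70000c6e000c6d000c6c000c6b000c6a000c69000c68000c67000c66000c65000c64000c63000c62000c61 else nat_lit 0xe09000e08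000e04000e01000e00000dff000dfd000dfc000dfa000df6000df3000df2000df1000df0000def000ded000deb000dea000de9000de7000de6000de5000de4000de3000ddf000dde000ddd000ddc000ddb000dda000dd9000dd8000dd7000dd6000dd3000dd1000dd0000dcf000dce000dcd000dca000dc7000dc6000dc5000dc4000dc3000dc0000dbe000dbc000dbb000db9000db8000db7000db6000db5000db3000daf000dae000dad000dac000da9000da8000da6000da5000da4000da3000d9f000d9e000d9c000d9b000d9a000d99000d98000d97000d96000d94000d92000d8f000d8a000d87000d86000d85000d84000d83000d80000d7f000d7d000d7c000d77000d76000d75000d74000d73000d70000d6f000d6e000d6d000d6c000d6a000d68000d65000d5c000d5b000d5a000d56000d55000d54000d53000d52000d51000d4d000d43000d42000d41000d40000d3f000d3e000d3d000d3c000d3b000d39000d38000d37000d36000d35000d34000d33000d32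
def cT_18_21 (j : ℕ) : ℕ := bif Nat.blt j 19 then nat_lit 0xc60000c5c000c5b000c59000c58000c57000c56000c52000c51000c50000c4f000c4e000c4d000c4a000c49000c48000c47000c46000c44000c43000c42000c40000c3f000c3e000c3c000c3b000c3a000c37000c36000c35000c34000c33000c32000c31000c30000c2f000c2e000c2d000c29000c25000c24000c23000c20000c1c000c1a000c19000c17000c11000c0f000c0c000c0b000c0a000c08000c06000c05000c04000c02000c00000bff000bfd000bfa000bf4000bf2000bf1000bef000bed000bec000beb000be9000be4000be3000be2000be1000be0000bdd000bdc000bd7000bd6000bd4000bd1000bd0000bcf000bcd000bcc000bcb000bc9000bc8000bc7000bc2000bc1000bbf000bbe000bbd000bbc000bbb000bb1000bb0000bad000bac000ba8000ba3000ba0000b9f000b9b000b99000b98000b97000b96000b95000b93000b92000b91000b90000b8f000b8e000b8d000b8c000b8a000b89000b88000b86000b85000b84000b83000b81000b7f000b7e000b7a else (cT_19_21 j)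
def cT_22_24 (j : ℕ) : ℕ := bif Nat.blt j 23 then nat_lit 0xfe5000fe2000fdb000fda000fd4000fd3000fd2000fd0000fcf000fce000fcd000fcc000fc7000fc6000fc3000fc2000fc1000fc0000fbf000fb8000fb6000fb5000fb4000fb2000fb1000faf000fa9000fa7000fa5000fa3000fa1000f9f000f99000f97000f96000f91000f8f000f8e000f8d000f8c000f8b000f84000f82000f7f000f7c000f7b000f78000f77000f73000f72000f71000f70000f6e000f6d000f6c000f6a000f69000f67000f66000f65000f63000f62000f61000f60000f5f000f5e000f5d000f5b000f59000f58000f56000f55000f52000f51000f50000f4f000f4e000f4d000f4b000f4a000f48000f47000f46000f45000f44000f43000f42000f3b000f39000f32000f31000f30000f2f000f2c000f2a000f28000f27000f26000f25000f22000f20000f1f000f1d000f19000f15000f14000f13000f11000f10000f0e000f0d000f0c000f0b000f0a000f07000f06000f04000f03000f02000f01000f00000eff000efd000efb000ef9000ef7000ef6000eef else nat_lit 0x10da0010d90010d70010d50010d40010d10010d00010ce0010cc0010cb0010ca0010c80010c70010c60010c500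10c40010c20010c10010bb0010ba0010b90010b70010b50010b40010b00010ae0010ad0010ab0010aa0010a80010a60010a40010a30010a100109c00109a00109800109700109500109300109200109100108c00108a00108900108800108000107f00107e00107d00107c00107b00107a00107700107500107200107100107000106f00106e00106d00106900106500106400106300105b00105a00105600105500105400105300105200105100105000104f00104d00104c00104900104800104700104600104500104400104300104200104100104000103f00103e00103a00103900103800103600103500103200103100102c00102b00102900102800102700102500102300101c00101900101600101200100f00100c00100a001009001008001007001006001005001002001001000ffe000ffc000ffa000ff8000ff6000ff3000ff2000ff1000fef000fe7000fe6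
def cT_21_24 (j : ℕ) : ℕ := bif Nat.blt j 22 then nat_lit 0xeec000eea000ee9000ee8000ee7000ee5000ee3000ee2000ee1000ee0000ede000edd000edb000eda000ed8000ed7000ed6000ed5000ed4000ed1000ecf000ecb000eca000ec8000ec7000ec6000ec4000ec2000ec1000ec0000ebf000ebd000ebc000ebb000eb9000eb8000eb5000eb4000eb2000eae000eac000eab000eaa000ea7000ea0000e9f000e9d000e9b000e99000e98000e96000e95000e94000e93000e92000e90000e8f000e8c000e8b000e8a000e89000e87000e86000e80000e7e000e7d000e7c000e7b000e7a000e75000e74000e73000e72000e71000e70000e6e000e6a000e64000e63000e62000e5f000e5e000e5d000e5b000e59000e56000e55000e54000e53000e52000e51000e50000e49000e47000e46000e44000e43000e42000e41000e40000e3f000e3d000e3b000e3a000e39000e37000e36000e34000e30000e2e000e2d000e2c000e2a000e29000e27000e26000e25000e23000e20000e1e000e1d000e1a000e19000e18000e15000e14000e0c000e0a else (cT_22_24 j)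
def cT_18_24 (j : ℕ) : ℕ := bif Nat.blt j 21 then (cT_18_21 j) else (cT_21_24 j)
def cT_12_24 (j : ℕ) : ℕ := bif Nat.blt j 18 then (cT_12_18 j) else (cT_18_24 j)
def cT_0_24 (j : ℕ) : ℕ := bif Nat.blt j 12 then (cT_0_12 j) else (cT_12_24 j)
def cT_25_27 (j : ℕ) : ℕ := bif Nat.blt j 26 then nat_lit 0x12d10012d00012cf0012ce0012cd0012cc0012ca0012c70012c20012c10012bf0012bc0012ba0012b90012b80012b70012b60012af0012a70012a20012a000129f00129e00129c00129b00129500129300129000128e00128d00128c00128b00128a00128900128700128500128400128100128000127f00127e00127d00127c00127a00127800127700127500127400127300127000126f00126c00126b00126a00126900126800126700126600126400126300126100125f00125e00125d00125c00125900125800125700125500125200125000124d00124c00124b00124a00124900124600123f00123a00123800123500123400123300123200122f00122800122700122600122500122300121b00121a00121900121100121000120f00120c00120a0012080012070012040011ff0011fe0011fd0011fc0011fb0011f90011f10011ef0011eb0011e90011e50011e00011df0011de0011dd0011db0011d90011d80011d70011d60011d40011d10011d00011cf0011cd0011cc0011ca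 else nat_lit 0x13ef0013ec0013ea0013e80013e70013e50013e30013e20013df0013da0013d50013d40013d30013d20013d00013ce0013cc0013ca0013c90013c80013c70013c60013c50013c40013c30013c20013c10013bb0013ba0013b80013b70013b40013b30013ae0013ac0013aa0013a90013a80013a200139f00139d00139c00139a00139900139700139600138d00138900138800138400138000137f00137e00137c00137800137700137600137200137100137000136f00136e00136c00135a00135900135800135700134700134600134400134200134100134000133f00133e00133c00133b00133900133800133000132f00132e00132d00132a00132800132700132600132200132100131f00131e00131d00131b00131a00131900131800131700131500131300131000130f00130e00130d00130c00130b00130a0013090013020012fe0012fd0012fa0012f80012f70012f60012f20012ef0012ed0012ec0012e70012e60012e50012e20012df0012de0012dc0012da0012d90012d8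
def cT_24_27 (j : ℕ) : ℕ := bif Nat.blt j 25 then nat_lit 0x11c70011b90011b70011b60011b40011b20011ae0011ad0011a80011a50011a40011a20011a10011a000119f00119e00119c00119b00119a00119900119700119600119400119300119200119000118f00118e00118d00118c00118b00118a00118900118700118600118400118300118100117f00117d00117c00117a00117800117500117400117300117000116600116300116100116000115c00115a00115900115800115700115500115100115000114f00114e00114c00114a00114900114800114500114400114300114100113f00113d00113c00113a00113800113700113500113300113200113000112f00112e00112c00112900112800112700112600112500112400112300112100112000111f00111e00111d00111c00111a00111900111800111700111400110f00110e00110d0011050011030011010011000010fb0010fa0010f90010f80010f70010f60010f40010f30010f00010ef0010ee0010ed0010eb0010e50010e40010e30010e20010e10010df0010dd0010dc else (cT_25_27 j)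
def cT_28_30 (j : ℕ) : ℕ := bif Nat.blt j 29 then nat_lit 0x169200168e00168d00168c00168500168400168100167e00167d00167b00167a00167900167800167700167600167500167400167300166f00166d00166b00166600166400165f00165b00165900165700165600165200165100165000164800164700164600164500164400164300164200163e00163d00163b00163800163600162f00162c00162b00162a00162700162600162500162100162000161f00161e0016130016120016110016100016090016080016070015f80015f60015f50015f40015f10015f00015ef0015ed0015ec0015e60015e50015e10015e00015d80015d70015d60015d30015d10015cf0015ce0015cd0015cc0015cb0015c90015c80015c60015c20015c10015c00015bb0015b70015b50015b20015ae0015ab0015a90015a80015a60015a30015a20015a10015a000159f00159e00159d00159700159600159300159100158f00158e00158d00158b00158900158100157c00157700157600157500157300157100156d00156c00156b00156500156000155f else nat_lit 0x17ad0017ac0017ab0017a90017a60017a50017a40017a000179e00179b0017990017970017950017940017930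0178d00178a00178500178300178200177f00177800177600177500177400177200177100177000176d00176c00176b00176900176800176600176500176400176100176000175c00175b00175a00175800175600175400175300175200175100174d00174c00174b00174900174800174600174300174200174000173f00173d00173b00173900173500173400173300173200173000172e00172500172400172300172200172100172000171f00171e00171c00171b00171a00171300171200171100170f00170b00170a0017070017020017000016fd0016fb0016fa0016f50016f10016f00016ef0016ed0016ec0016eb0016ea0016e90016e80016e70016df0016de0016db0016d70016d50016c60016c40016c30016c20016c00016be0016bd0016bc0016ba0016b70016b60016b40016b00016af0016aa0016a90016a70016a60016a50016a40016a30016a1001693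
def cT_27_30 (j : ℕ) : ℕ := bif Nat.blt j 28 then nat_lit 0x155e00155d00155b00155a00155900155400155100155000154f00154e00154d00154a00154700154600154500154300154200154100153c00153b00153900153800153700153600153500153400153300153200152e00152000151800151500151400151300151000150e00150d00150c0015060015010015000014ff0014fc0014f80014f60014f40014f30014f10014ed0014e80014e70014e10014df0014dd0014db0014d40014d10014cc0014cb0014ca0014c30014c20014b70014b50014b20014b00014a90014a60014a50014a300149900149500148f00148c00148a00148900148800148700148500148100147f00147900147600147300147000146b00145f00145b00145900145300145200144d00144c00144b00144a00144700144600144500144300144100143d00143900143800143700143600143400143300142b00142600142500142300142100142000141d00141c00141b0014190014180014170014160014150014120014090014080014070013fd0013f60013f4 else (cT_28_30 j)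
def cT_24_30 (j : ℕ) : ℕ := bif Nat.blt j 27 then (cT_24_27 j) else (cT_27_30 j)
def cT_31_33 (j : ℕ) : ℕ := bif Nat.blt j 32 then nat_lit 0x1a16001a15001a14001a13001a0f001a0b001a07001a06001a05001a000019fd0019fb0019f90019f70019f60019f50019f40019f20019f10019f00019ee0019e80019e70019e60019e50019e40019e00019df0019de0019db0019d70019d60019d30019d20019d00019cf0019cc0019cb0019c60019bd0019bb0019ba0019b50019b40019ad0019ac0019aa0019a80019a70019a60019a40019a30019a20019a10019a000199c00199600199000198d00198b00198a00198700198400198300197f00197e00197d00197900197800197300196d00196a00196900196600196400196300196200195f00195d00195800195600195100195000194e00194700194600194400194100193f00193d00193b00193a00193900193800193700193200193000192f00192e00192d00192c00192b00192a00192700192600192400192100191a00191900191800191600191400191100190f00190e00190c00190b0019010018fc0018fa0018f90018f10018ef0018ee0018ea0018e70018e40018e3 else nat_lit 0x1b3e001b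3b001b39001b35001b33001b31001b28001b26001b25001b24001b20001b1c001b17001b13001b12001b11001b10001b0d001b0c001b0b001b0a001b09001b06001b03001afd001afb001afa001af9001af2001af1001aee001aeb001aea001ae9001ae8001ae7001ae6001ae3001ae0001add001ad9001ad8001ad4001ad1001ad0001acf001acc001aca001ac8001ac5001ac3001ac1001abc001abb001ab6001ab2001ab0001aaf001aa9001aa3001a9e001a9d001a9c001a9b001a9a001a97001a94001a8a001a85001a84001a80001a7c001a76001a71001a70001a6e001a6d001a6a001a66001a65001a64001a63001a61001a5f001a5e001a5d001a5c001a5b001a5a001a59001a58001a55001a52001a50001a4d001a49001a48001a47001a44001a43001a42001a40001a3f001a3e001a3c001a3b001a3a001a34001a33001a32001a31001a30001a2f001a2e001a2d001a2c001a2a001a29001a27001a26001a25001a22001a1f001a1e001a1d001a1b001a19001a17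
def cT_30_33 (j : ℕ) : ℕ := bif Nat.blt j 31 then nat_lit 0x18e10018e00018dd0018d90018d60018d30018cf0018cd0018cb0018ca0018c70018c60018c10018c00018bb0018ba0018b90018b80018b60018b20018b10018af0018ae0018a90018a20018a10018a000189f00189c00189800189400189300189000188f00188d00188b00188900188000187f00187d00187a00187900187700187600187400187200186f00186b00186a00186600186500186300186200186100186000185e00185d00185c00185900185800185700185600185500185400185100184e00184b00184a00184800184700184600184500184200184100184000183f00183e00183d00183c00183800183600183400183300183100183000182f00182b00182a00182300181a00181900181700181500181300181100180e0018010018000017ff0017fe0017fd0017fc0017fa0017f10017ef0017ed0017ec0017eb0017ea0017e80017e60017e40017e30017e00017df0017d90017d80017cf0017ce0017cd0017cc0017cb0017c80017c30017bb0017ba0017b60017ae else (cT_31_33 j)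
def cT_34_36 (j : ℕ) : ℕ := bif Nat.blt j 35 then nat_lit 0x1e86001e85001e7f001e7e001e7c001e7b001e7a001e73001e69001e67001e65001e64001e63001e60001e59001e57001e56001e50001e4f001e4d001e4b001e4a001e3f001e3d001e3c001e37001e25001e1a001e18001e13001e11001e0a001e08001e04001e03001e01001df5001df2001df1001df0001de7001de4001de0001ddd001dd8001dd3001dd1001dc9001dc8001dc6001dc2001dbf001dbc001db8001db5001db3001db2001db1001daf001dae001daa001da9001da7001da6001da4001da2001d9c001d99001d98001d97001d95001d91001d8d001d8c001d8b001d8a001d89001d88001d85001d82001d7a001d78001d6b001d65001d5e001d5b001d56001d4f001d4a001d49001d40001d38001d37001d31001d2d001d25001d22001d20001d1c001d1a001d19001d18001d17001d15001d12001d10001d0e001d0d001d0b001d08001d04001d00001cf7001cf4001cf3001ced001cec001ce6001ce0001cde001cdd001ccc001ccb001cca001cc7001cc6001cc3001cc1 else nat_lit 0x20aa0020a500209700209600208500208400208200207b0020780020700020630020570020550020510020500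0204f00204e00204a00204900204700204600204100204000203e00203800203600203100202f00202d00202700202100201f00201b00201700201600201400201300201200201100200e002008002002001fff001ffe001ffa001ff8001ff7001ff4001ff0001fef001fed001feb001fe6001fde001fdd001fdb001fd9001fd7001fd5001fc9001fc8001fc7001fc6001fc5001fc2001fbb001fb7001fb3001fae001faa001fa8001fa4001f96001f92001f8f001f87001f85001f84001f7f001f7e001f77001f74001f73001f6d001f64001f5d001f57001f50001f4b001f49001f46001f3e001f3b001f3a001f37001f32001f30001f2d001f22001f20001f1b001f1a001f19001f18001f14001f12001f10001f0d001f09001ef5001eed001eec001ee9001ee6001ee5001eda001ed7001ed6001ed1001ecd001ebf001ebd001eb6001eb2001eb1001ea2001e95001e90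
def cT_33_36 (j : ℕ) : ℕ := bif Nat.blt j 34 then nat_lit 0x1cbd001cba001cb9001cb7001cb3001cb2001cad001cac001caa001ca8001ca4001ca3001ca2001ca1001c9e001c9a001c96001c95001c94001c91001c90001c8e001c84001c7e001c7d001c7c001c75001c74001c73001c71001c70001c6c001c63001c62001c5b001c59001c55001c52001c4e001c4b001c49001c47001c46001c45001c3f001c3a001c36001c2f001c2a001c28001c27001c23001c21001c17001c0c001c0b001c01001bf8001bf2001bed001bec001be8001be6001be5001be4001be0001bdf001bde001bda001bd8001bd7001bd6001bd2001bd1001bd0001bcf001bcd001bcc001bc8001bc2001bbe001bbd001bba001bb4001bb3001bb1001bac001baa001ba7001ba4001ba3001ba2001ba1001ba0001b9e001b9d001b9b001b9a001b99001b97001b94001b92001b8d001b8c001b89001b83001b81001b80001b7c001b77001b76001b73001b72001b71001b6f001b6e001b69001b67001b5d001b57001b4c001b4b001b4a001b49001b48001b45001b44001b43 else (cT_34_36 j)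
def cT_30_36 (j : ℕ) : ℕ := bif Nat.blt j 33 then (cT_30_33 j) else (cT_33_36 j)
def cT_24_36 (j : ℕ) : ℕ := bif Nat.blt j 30 then (cT_24_30 j) else (cT_30_36 j)
def cT_37_39 (j : ℕ) : ℕ := bif Nat.blt j 38 then nat_lit 0x24ad0024ab0024a60024a000249b00248d00248c00248900248800248200248000247900247100246e00246300245e00245b00245a00245700245400245200245000244c00244b00244300243900243700242f00242e00242d00242b00242500242100241f00241b00241a00241600241400240b00240a0024090024080024070024020024000023f80023f20023f00023e90023e50023db0023d70023cd0023cc0023c60023bd0023b90023b50023b20023b10023ad0023ac0023a90023a700239f00238e00238b00238200238100237a00237900237100237000236d00236b00236900236800236600235b00235a00235700235600234700234600233f00233e00233900233700232a00232800232600232100231f00231b00231a00231900231800231600230b0023080023060023020023010023000022fd0022fc0022fb0022fa0022f90022f80022ed0022ec0022eb0022df0022d60022d40022d20022c80022c70022c40022c30022c20022be0022bc0022ba0022b70022b10022b0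 else nat_lit 0x266b00266a00266700266600266300266200266000265b00265500265400265300264b00264800264700264500264400264300264100264000263f00263c00263b00263a00263900263100262f00262c00262800262500262000261e00261d0026110026060026010025f90025f60025f10025ed0025ec0025ea0025e90025e70025e50025d70025d50025cd0025cc0025c20025bf0025bd0025b70025b10025b00025ab0025aa0025a60025a50025a30025a10025a000259f00259d00259900259800259400259200258e00258800258600258500258400258300258200257e00257700257500257000256f00256d00256a00256900256700256300255d00255800255400255100255000254a00254900254100254000253c00253300253200253100253000252d00252b00252700252600252500251e00251a0025190025120025090025070025050025010025000024fe0024fd0024f60024f20024ea0024e80024e70024e00024df0024de0024db0024d90024d80024ba0024b40024ae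
def cT_36_39 (j : ℕ) : ℕ := bif Nat.blt j 37 then nat_lit 0x22a70022a60022a30022a100229e00229d00229700228400227700227200226e00226d00226a00226800226000225e00225900224f00224e00224d00224c00224b00223b00223800222d00222b00222500221d00221c00221100221000220e0022080022070022010021fb0021f70021f50021f30021f20021ef0021ec0021e70021e50021e40021e30021e10021da0021d60021d40021d00021cd0021c70021c50021c30021c10021c00021bd0021b50021ae0021ac0021aa00219600219500219400218f00218c00218900218800218600217d00217a00217400217100216c00216b00216900216800216600216500216200216000215e00215500215300215200215000214f00214c00214a00214900214800214700214300214200213f00213e00213d00213900213600213300213100212800212600212400212100211d00211a00211700211500211300211200210b0021040021000020f90020f50020ea0020e90020d10020cd0020c60020c50020bd0020b50020b30020af0020ad else (cT_37_39 j)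
def cT_40_42 (j : ℕ) : ℕ := bif Nat.blt j 41 then nat_lit 0x2b6a002b68002b66002b65002b4d002b49002b45002b44002b43002b3c002b3b002b23002b1a002b16002b12002b10002b0d002b0a002b09002b08002b07002b05002af3002aea002ae3002ae2002acf002ac9002ac6002ac4002ac1002ac0002abb002aba002ab9002ab7002ab4002ab0002aaf002aa9002aa2002a9b002a99002a98002a8c002a8a002a86002a85002a81002a7d002a79002a69002a5f002a52002a4a002a48002a44002a42002a41002a34002a33002a2f002a2e002a2d002a2c002a24002a22002a1f002a1e002a1a002a19002a13002a12002a04002a03002a020029fe0029fd0029fa0029f70029f40029f00029ed0029e60029e20029dc0029db0029da0029d10029d00029c60029c40029bf0029bc0029b90029b60029b30029b00029a300299e00299a00299700299200298e00298d00298700298200297f00297800297200296a00296900296200295d00295c00295700295000294f00294c00294800294600293c00293b00293400292800292500291f002916 else nat_lit 0x2e57002e55002e49002e48002e43002e41002e3f002e3d002e34002e28002e18002e13002e12002e0e002e0b0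02e04002df6002df5002de6002de2002de1002de0002dd4002dce002dca002dc3002dc1002dba002db4002da6002da5002da0002d97002d90002d87002d86002d7c002d7b002d68002d67002d66002d61002d5c002d54002d52002d4e002d4c002d47002d41002d40002d35002d2e002d2c002d2b002d2a002d29002d26002d1d002d19002d18002d0b002d09002d08002cf5002cf4002cf2002cef002ce0002ccb002cc7002caf002ca0002c9d002c91002c8b002c8a002c89002c83002c7e002c7a002c73002c70002c69002c5c002c53002c4f002c4a002c49002c47002c37002c2d002c23002c0b002c06002c05002c04002c00002bf0002bec002be1002bdf002bde002bdc002bd9002bd4002bce002bca002bc7002bbe002bbd002bb6002bb3002ba6002ba0002b9f002b9d002b92002b8d002b89002b85002b84002b83002b82002b80002b7f002b7c002b6e002b6c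
def cT_39_42 (j : ℕ) : ℕ := bif Nat.blt j 40 then nat_lit 0x290e00290a0029030028ef0028ec0028e80028e60028e50028d00028cf0028c80028c40028c00028bc0028b30028b00028aa0028a700289500287b00287900286a00285c00285700285100284e00284900284600284400284000283b00283500283300282a0028280028230028180028140028130028040028020027df0027de0027d10027ca0027c70027c40027b60027b40027ac0027ab0027a80027a70027a50027a400279500279300279200278a00278600278200277800277100276f00276b00276900276600276400276300275f00275300275200274800274700274500273f00273400273200273000272c00272b00272a00272700271800271700271600271400271000270f00270e0027050027020027010026fe0026fd0026fb0026fa0026f80026e00026dc0026d10026cf0026cd0026cc0026c30026c20026c10026bf0026b90026b00026ac0026aa0026a60026a50026a40026a30026a200269e00269d00269b00269a00269200269100268e00268a002687002681002676 else (cT_40_42 j)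
def cT_36_42 (j : ℕ) : ℕ := bif Nat.blt j 39 then (cT_36_39 j) else (cT_39_42 j)
def cT_43_45 (j : ℕ) : ℕ := bif Nat.blt j 44 then nat_lit 0x34d30034ce0034c40034bc0034b60034ae0034ad0034a000349700349600349100348600347800347400347200346300346100345c00343800343500342f00342c00342400341c00341a0034160033fc0033f80033f60033c50033c30033a30033a20033a100339a00338100338000337c00337300336800335b00335100333b00333100333000332f00332e00332b0033270033260033060033050032fe0032fd0032fa0032f90032f80032f50032f40032e40032e30032ce0032c90032ba0032b10032a60032a300329900329200329100328800328500328400327c00327900327600327500326e00326900326400325f00325800325500325400324c00324900323800323400323200322a00322800322700322000321c00321400321200321000320e0031fa0031f90031f70031f60031ee0031ec0031e00031d70031d20031cb0031ba0031ac0031aa0031a200318b00318800318600317d00317a00316b00315c00315a00315600311b00311300310f0031060031050031020030fc else nat_lit 0x393b0039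3500392b00392500392200390c0038ff0038b60038a90038a80038a100389100388e00387b00387500386f00386900386100386000385900385700384c00384800384600383300382d0038270038260038250038200038180037fd0037e00037d90037d80037d40037ce0037cc0037c90037c00037b30037af0037a70037a000379e00379d00379800379700378d00378300377000374d00374200373b0037350037220037110036fd0036f60036f40036e20036db0036ca0036c30036c20036be0036ba0036b80036b50036b30036ad0036ab0036a60036a100369800368b00368800368300367f0036770036720036710036560036550036530036460036330036290036060035ff0035f70035f40035e10035da0035d90035d40035d30035d10035cc0035b20035b10035b00035ae00358400358300357200356900356500356000355f00355d00355a00355700353b00353a00353600353500353200352900351e00351c00351a00350c00350a0034fd0034ea0034e90034e3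
def cT_42_45 (j : ℕ) : ℕ := bif Nat.blt j 43 then nat_lit 0x30fb0030f70030f50030f30030f10030e60030e30030de0030d20030ac0030a900309800309600309000308900307d00307500306f00306d00305f00304800304000303a00303900303500302a00302700302400301b003019003012003010003009003007003003003002002fea002fe6002fde002fdd002fdc002fca002fc6002fc5002fc0002fbd002fbc002fb8002fac002faa002fa2002fa1002f9f002f9e002f9a002f98002f94002f93002f8e002f8b002f89002f88002f87002f85002f82002f7e002f7a002f75002f6c002f69002f68002f67002f66002f5d002f5c002f51002f4c002f48002f43002f42002f3c002f38002f34002f2c002f21002f1c002f1b002f1a002f16002f14002f0e002f09002f07002f04002f03002f01002ef5002eed002ee9002ee5002ee2002ec8002ec7002ec5002ec1002ec0002eb3002ea9002ea7002ea1002e9c002e98002e96002e95002e94002e93002e8f002e8e002e89002e81002e80002e78002e76002e74002e72002e6d002e6a002e68 else (cT_43_45 j)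
def cT_45_47 (j : ℕ) : ℕ := bif Nat.blt j 46 then nat_lit 0x400c003ff4003fc4003fc2003fbd003fb0003fad003f9c003f95003f87003f6d003f54003f3b003f33003f08003f00003eea003edd003ed3003ecd003eaf003ea7003e9a003e78003e75003e74003e3e003e3c003e2d003e1e003e1d003e18003df3003dd1003dcd003dcb003dc2003db8003d72003d71003d62003d38003d2f003d05003ce0003cdb003ccd003ccc003cc7003cb1003ca5003c9e003c9d003c98003c95003c7f003c78003c66003c65003c60003c52003c4e003c43003c3d003c37003c32003c2f003c18003c0e003c0b003c07003bfa003bda003bd4003bcd003bbb003bb4003ba4003b93003b8b003b80003b7d003b7a003b79003b6b003b65003b4e003b29003b1b003b07003b02003aea003ad7003acc003ac5003ab1003aa9003aa8003aa5003a91003a90003a8f003a8e003a7d003a79003a77003a76003a74003a71003a70003a60003a4e003a49003a32003a190039fe0039f50039e90039ca0039b60039b50039b000395c00395b00395200394600393f00393d else nat_lit 0x48e00048dc0048d90048c200489d00488700486500482e00482d0048230048090047fe0047fb0047f70047cb0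047b00047ad00478700478600476400475600474c0047220046d20046cb0046b000469100468c00467b00467900467000466700466400465700464f00464a00463900463500463200462500461f0045f90045eb0045e80045cd0045ca0045c90045c000458100457e00457400456a00456600456400454f00454c00454900450c0045010044ed0044d60044c40044c20044b80044b20044aa0044a80044920044910044590044490044320044140043fe0043db0043b800439a00439600437100435700434d00434c0043190043090042d80042c70042a80042a60042a10042a000429300428900427d00426300424a00421600420c0042050041eb0041cc0041ae0041ab00419b00419a00419700418300417c00417700416c00416200415800415300415200413700410a0040da0040d10040ca0040c00040bd0040b800407d00407300406b00404700404600403300400f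
def cT_47_49 (j : ℕ) : ℕ := bif Nat.blt j 48 then nat_lit 0x67ce00673a00664700658f0064a40064580063df0063890063460062fd0062f90062460062310061f20061c90061a300615f00607000605500603b006018005fa5005f66005eb2005e7f005dd3005d53005d21005cec005cb7005c4b005bfe005beb005be9005b80005b2800599800595700591e0057f70057e20057c80057c600573200570b0056f200569100560f0055900055160055070053d800539d00539500537f0053630052d600528900527600526f0052540052340052140051f20051c80051840050d50050bd0050a70050a400505f004fbf004f92004f90004f66004f55004f46004f06004eec004ee0004ed1004ebc004eb3004eac004e71004e58004e56004e37004de6004dbd004d93004d8e004d7a004d4e004d3c004d31004d30004d24004d02004cc8004ca8004c93004c5b004c57004c56004c1f004c04004bf7004bed004bb9004bb5004baa004b84004b79004b3f004b22004b12004a79004a51004a2f004a25004a170049f20049e30049760049590049190048ec else nat_lit 0x7116007115007114007113007112007111007110007032006d00006c1d006b930067fe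
def cT_45_49 (j : ℕ) : ℕ := bif Nat.blt j 47 then (cT_45_47 j) else (cT_47_49 j)
def cT_42_49 (j : ℕ) : ℕ := bif Nat.blt j 45 then (cT_42_45 j) else (cT_45_49 j)
def cT_36_49 (j : ℕ) : ℕ := bif Nat.blt j 42 then (cT_36_42 j) else (cT_42_49 j)
def cT_24_49 (j : ℕ) : ℕ := bif Nat.blt j 36 then (cT_24_36 j) else (cT_36_49 j)
def cT_0_49 (j : ℕ) : ℕ := bif Nat.blt j 24 then (cT_0_24 j) else (cT_24_49 j)
def cT (j : ℕ) : ℕ := (cT_0_49 j)
noncomputable def cChunk (h : ℕ) : ℕ := Nat.rec (motive := fun _ => ℕ) (cT 0) (fun n _ => cT (Nat.succ n)) h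
noncomputable def cF (i : ℕ) : ℕ := Nat.land (Nat.shiftRight (cChunk (Nat.shiftRight i 7)) (Nat.mul (Nat.land i 127) 24)) 16777215
theorem cF_lt (i : ℕ) : cF i < 16777216 := land24_lt _
theorem cF_zero : cF 0 = 0 := by decide +kernel
def nDef : ℕ := 28950
def nEv : ℕ := 72313
def nW : ℕ := 360
def N : ℕ := 6156
def ys : List ℕ := [nat_lit 0, nat_lit 1, nat_lit 2, nat_lit 3, nat_lit 4]
end Cfsg.Agent.Lib.ToddCox.J3T
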